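import Mathlib
import Cfsg.Agent.FixBN.Trace

/-!
# The trace theorem for automorphisms of finite order of a finite building

`exists_disp` : `θ` an automorphism of finite order of a finite building whose parameters are divisible by `p`, stabilizing
the residue `R` of type `J` and no proper residue of `R`: every `v ∈ W_J` which is in no proper `σ`-stable standard parabolic
subgroup of `W_J` is the displacement `δ(y, θ y)` of some chamber `y` of `R`.
-/

set_option autoImplicit false
set_option linter.unusedSectionVars false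

namespace Cfsg.Agent.H864.TrHecke

open Cfsg.Agent.Tits.Core Cfsg.Agent.Tits.Core.Bldg Cfsg.Agent.Tits.OppRes Cfsg.Agent.FixBN Cfsg.Agent.FixBN.Trace

variable {I : Type*} {M : CoxeterMatrix I} {W : Type*} [Group W] {cs : CoxeterSystem M W} {C : Type*}

section Supp

variable [F : Cox cs]

/-- The letters of a reduced word of an element of `W_K` lie in `K`. -/
theorem mem_of_reduced {ω : List I} (hω : cs.IsReduced ω) {K : Set I} (h : cs.wordProd ω ∈ WJ cs K) :
    ∀ i ∈ ω, i ∈ K := by
  induction ω using List.reverseRecOn with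
  | nil => simp
  | append_singleton ω i ih =>
    have h1 : cs.IsReduced ω := by
      have := hω.take ω.length
      rwa [List.take_left] at this
    have h2 : cs.wordProd (ω ++ [i]) * cs.simple i = cs.wordProd ω := by
      rw [cs.wordProd_append, cs.wordProd_singleton, mul_assoc, cs.simple_mul_simple_self, mul_one]
    have h3 : i ∈ K := by
      apply F.descent_mem K _ h i
      rw [h2, h1.eq, hω.eq]
      simp
    have h4 : cs.wordProd ω ∈ WJ cs K := by
      rw [← h2]
      exact mul_mem h (simple_mem_WJ h3)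
    intro j hj
    rcases List.mem_append.1 hj with h5 | h5
    · exact ih h1 h4 j h5
    · rw [List.mem_singleton.1 h5]
      exact h3

/-- `v` is in no proper `σ`-stable standard parabolic subgroup of `W_J`. -/
def Full (cs : CoxeterSystem M W) (σ : I → I) (J : Set I) (v : W) : Prop :=
  ∀ K : Set I, (∀ i ∈ K, σ i ∈ K) → v ∈ WJ cs K → J ⊆ K

omit F in
theorem Full.inv {σ : I → I} {J : Set I} {v : W} (h : Full cs σ J v) : Full cs σ J v⁻¹ :=
  fun K hK hv => h K hK (by rw [← inv_inv v]; exact inv_mem hv)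

end Supp

section Diag

variable {φ : W ≃* W} {σ : I → I} (hφ : ∀ i, φ (cs.simple i) = cs.simple (σ i))

include hφ

theorem iter_wordProd (n : ℕ) (ω : List I) : φ^[n] (cs.wordProd ω) = cs.wordProd (ω.map σ^[n]) := by
  induction n generalizing ω with
  | zero => simp
  | succ n ih =>
    rw [Function.iterate_succ_apply, Cfsg.Agent.FixBN.Cox.map_wordProd hφ, ih, List.map_map]
    rfl

theorem length_iter_le (n : ℕ) (w : W) : cs.length (φ^[n] w) ≤ cs.length w := by
  induction n generalizing w with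
  | zero => exact le_rfl
  | succ n ih =>
    rw [Function.iterate_succ_apply]
    exact (ih _).trans (Cfsg.Agent.FixBN.Cox.length_map_le hφ w)

variable {L : ℕ} (hL : 0 < L) (hσL : ∀ i, σ^[L] i = i)

include hσL in
theorem iter_eq (w : W) : φ^[L] w = w := by
  obtain ⟨ω, hω, rfl⟩ := cs.exists_isReduced w
  rw [iter_wordProd hφ]
  congr 1
  exact (List.map_congr_left fun i _ => hσL i).trans (List.map_id _)

include hL hσL

theorem length_φ (w : W) : cs.length (φ w) = cs.length w := by
  apply le_antisymm (Cfsg.Agent.FixBN.Cox.length_map_le hφ w)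
  obtain ⟨k, rfl⟩ : ∃ k, L = k + 1 := ⟨L - 1, by omega⟩
  have h1 := length_iter_le hφ k (φ w)
  rw [← Function.iterate_succ_apply, iter_eq hφ hσL] at h1
  exact h1

theorem length_iter (n : ℕ) (w : W) : cs.length (φ^[n] w) = cs.length w := by
  induction n generalizing w with
  | zero => rfl
  | succ n ih => rw [Function.iterate_succ_apply, ih, length_φ hφ hL hσL]

theorem mem_WJ_iter {J : Set I} (hJ : ∀ i ∈ J, σ i ∈ J) {w : W} (hw : w ∈ WJ cs J) (n : ℕ) :
    φ^[n] w ∈ WJ cs J := by
  induction n generalizing w with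
  | zero => exact hw
  | succ n ih => rw [Function.iterate_succ_apply]; exact ih (Cfsg.Agent.FixBN.Cox.mem_WJ_map hφ hJ hw)

theorem φ_wJ [F : Cox cs] {J : Set I} (hJ : ∀ i ∈ J, σ i ∈ J) : φ (wJ cs J) = wJ cs J := by
  have h1 := Cfsg.Agent.FixBN.Cox.mem_WJ_map hφ hJ (F.wJ_mem J)
  have h2 := (F.longest J).eq_of_length h1 (by rw [length_φ hφ hL hσL])
  exact h2

end Diag

section Hecke

open scoped Classical

variable {Δ : Bldg cs C} {J : Set I} {x : C} {k : Type*} [CommRing k] [F : Cox cs] [Fintype (Δ.Res J x)]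

/-- The signed operator `e_w`. -/
noncomputable def E (Δ : Bldg cs C) (J : Set I) (x : C) (k : Type*) [CommRing k] (w : W) :
    Matrix (Δ.Res J x) (Δ.Res J x) k := (-1 : k) ^ cs.length w • T Δ J x k w

omit F [Fintype (Δ.Res J x)] in
theorem E_one : E Δ J x k (1 : W) = 1 := by
  rw [E, cs.length_one, pow_zero, one_smul, T_one]

theorem E_mul_of_lt {w : W} {i : I} (hi : i ∈ J) (h : cs.length w < cs.length (cs.simple i * w)) :
    E Δ J x k (cs.simple i) * E Δ J x k w = E Δ J x k (cs.simple i * w) := by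
  have h1 : cs.length (cs.simple i * w) = cs.length w + 1 := by
    have := cs.length_mul_le (cs.simple i) w
    rw [cs.length_simple] at this
    omega
  rw [E, E, E, smul_mul_smul_comm, simple_mul_T_of_lt hi h, h1, cs.length_simple]
  congr 1
  ring

theorem E_mul_of_gt (hq : Zero k Δ J x) {w : W} {i : I} (hi : i ∈ J)
    (h : cs.length (cs.simple i * w) < cs.length w) :
    E Δ J x k (cs.simple i) * E Δ J x k w = E Δ J x k w := by
  rw [E, E, smul_mul_smul_comm, simple_mul_T_of_gt hq hi h, cs.length_simple, pow_one, smul_neg, neg_one_mul,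
    neg_smul, neg_neg]

/-- the left descents -/
def Dsc (cs : CoxeterSystem M W) (J : Set I) (w : W) : Set I := {i | i ∈ J ∧ cs.length (cs.simple i * w) < cs.length w}

theorem E_mul (hq : Zero k Δ J x) {v w : W} (hv : v ∈ WJ cs J) (hw : w ∈ WJ cs J) :
    ∃ w' ∈ WJ cs J, E Δ J x k v * E Δ J x k w = E Δ J x k w' ∧ cs.length w ≤ cs.length w' ∧
      (cs.length w' = cs.length w → w' = w ∧ v ∈ WJ cs (Dsc cs J w)) := by
  obtain ⟨ω, hω, hred, rfl⟩ := Tits.Exchange.exists_reduced_of_mem_WJ cs hv
  clear hv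
  induction ω with
  | nil =>
    refine ⟨w, hw, ?_, le_rfl, fun _ => ⟨rfl, ?_⟩⟩
    · rw [cs.wordProd_nil, E_one, one_mul]
    · rw [cs.wordProd_nil]; exact one_mem _
  | cons i ω ih =>
    have hi : i ∈ J := hω i (by simp)
    have hred' : cs.IsReduced ω := by
      have := hred.drop 1
      simpa using this
    have hl : cs.length (cs.wordProd ω) < cs.length (cs.simple i * cs.wordProd ω) := by
      rw [← cs.wordProd_cons, hred.eq, hred'.eq]
      simp
    obtain ⟨w1, hw1, h1, h2, h3⟩ := ih (fun j hj => hω j (by simp [hj])) hred'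
    have hE : E Δ J x k (cs.wordProd (i :: ω)) * E Δ J x k w = E Δ J x k (cs.simple i) * E Δ J x k w1 := by
      rw [cs.wordProd_cons, ← E_mul_of_lt hi hl, mul_assoc, h1]
    by_cases h4 : cs.length (cs.simple i * w1) < cs.length w1
    · refine ⟨w1, hw1, ?_, h2, fun h5 => ?_⟩
      · rw [hE, E_mul_of_gt hq hi h4]
      · obtain ⟨h6, h7⟩ := h3 h5
        refine ⟨h6, ?_⟩
        rw [cs.wordProd_cons]
        refine mul_mem (simple_mem_WJ ⟨hi, ?_⟩) h7
        rw [← h6]
        exact h4
    · have h5 : cs.length w1 < cs.length (cs.simple i * w1) :=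
        lt_of_le_of_ne (not_lt.1 h4) (cs.length_simple_mul_ne w1 i).symm
      refine ⟨cs.simple i * w1, mul_mem (simple_mem_WJ hi) hw1, ?_, by omega, fun h6 => by omega⟩
      rw [hE, E_mul_of_lt hi h5]

/-- `e_v e_{w_J} = e_{w_J}` -/
theorem E_mul_wJ (hq : Zero k Δ J x) {v : W} (hv : v ∈ WJ cs J) :
    E Δ J x k v * E Δ J x k (wJ cs J) = E Δ J x k (wJ cs J) := by
  obtain ⟨w', hw', h1, h2, h3⟩ := E_mul (k := k) hq hv (F.wJ_mem J)
  have h4 := (F.longest J).length_le hw'
  rw [h1, (h3 (le_antisymm h4 h2)).1]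

omit F [Fintype (Δ.Res J x)] in
theorem E_transpose (w : W) : (E Δ J x k w).transpose = E Δ J x k w⁻¹ := by
  rw [E, E, Matrix.transpose_smul, T_transpose, cs.length_inv]

theorem E_wJ_mul (hq : Zero k Δ J x) {v : W} (hv : v ∈ WJ cs J) :
    E Δ J x k (wJ cs J) * E Δ J x k v = E Δ J x k (wJ cs J) := by
  have h := congrArg Matrix.transpose (E_mul_wJ (k := k) hq (inv_mem hv))
  rwa [Matrix.transpose_mul, E_transpose, E_transpose, inv_inv, F.wJ_inv] at h

end Hecke

section Main

open scoped Classical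

variable {Δ : Bldg cs C} {J : Set I} {x : C} [F : Cox cs] {φ : W ≃* W} {σ : I → I} {θ : C ≃ C}

omit F in
theorem Full.mono {J : Set I} {v : W} {ω : List I} (h : Full cs σ J v) (hv : v = cs.wordProd ω) {D : Set I} {L : ℕ}
    (hL : 0 < L) (hσL : ∀ i, σ^[L] i = i) {n : ℕ} (hD : ∀ i ∈ ω, ∀ m, n ≤ m → m < n + L → σ^[m] i ∈ D) : J ⊆ D := by
  have hmod : ∀ (m : ℕ) (i : I), σ^[m % L] i = σ^[m] i := by
    intro m i
    conv_rhs => rw [← Nat.mod_add_div m L, Function.iterate_add_apply, Function.iterate_mul]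
    congr 1
    have h1 : σ^[L] = id := funext hσL
    rw [h1, Function.iterate_id]
    rfl
  have hall : ∀ i ∈ ω, ∀ m, σ^[m] i ∈ D := by
    intro i hi m
    obtain ⟨m', h1, h2, h3⟩ : ∃ m', n ≤ m' ∧ m' < n + L ∧ m' % L = m % L := by
      refine ⟨n + (m + (L - n % L)) % L, by omega, ?_, ?_⟩
      · have := Nat.mod_lt (m + (L - n % L)) hL
        omega
      · have h4 : n % L < L := Nat.mod_lt _ hL
        rw [Nat.add_mod, Nat.mod_mod, ← Nat.add_mod]
        have h5 : n + (m + (L - n % L)) = m + L * (n / L + 1) := by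
          have := Nat.div_add_mod n L
          rw [mul_add, mul_one]
          omega
        rw [h5, Nat.add_mul_mod_self_left]
    rw [← hmod m, ← h3, hmod m']
    exact hD i hi m' h1 h2
  have h1 := h {i | ∀ m, σ^[m] i ∈ D} (fun i hi m => by
    have := hi (m + 1)
    rwa [Function.iterate_succ_apply] at this) (by
      rw [hv]
      exact Tits.Exchange.wordProd_mem_WJ cs fun i hi => hall i hi)
  exact fun i hi => h1 hi 0

/-- **The trace theorem.** -/
theorem exists_disp {p : ℕ} [Fact p.Prime] [Finite (Δ.Res J x)]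
    (hφ : ∀ i, φ (cs.simple i) = cs.simple (σ i)) {L : ℕ} (hL : 0 < L) (hσL : ∀ i, σ^[L] i = i)
    (hJ : ∀ i ∈ J, σ i ∈ J) (hθ : ∀ a b, Δ.δ (θ a) (θ b) = φ (Δ.δ a b))
    (hθR : ∀ a ∈ Δ.Res J x, θ a ∈ Δ.Res J x) (hmin : ∀ a ∈ Δ.Res J x, Full cs σ J (Δ.δ a (θ a)))
    (hq : Zero (ZMod p) Δ J x) {v : W} (hv : v ∈ WJ cs J) (hfull : Full cs σ J v) :
    ∃ a ∈ Δ.Res J x, Δ.δ a (θ a) = v := by
  have hfin := Fintype.ofFinite (Δ.Res J x)
  have hθR' : ∀ a ∈ Δ.Res J x, θ.symm a ∈ Δ.Res J x := by
    have h1 : θ '' (Δ.Res J x) = Δ.Res J x := by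
      apply Set.eq_of_subset_of_ncard_le
      · rintro _ ⟨a, ha, rfl⟩
        exact hθR a ha
      · rw [Set.ncard_image_of_injective _ θ.injective]
      · exact Set.toFinite _
    intro a ha
    rw [← h1] at ha
    obtain ⟨b, hb, rfl⟩ := ha
    rwa [θ.symm_apply_apply]
  set k := ZMod p
  let P : Matrix (Δ.Res J x) (Δ.Res J x) k := Matrix.of fun a b => if (b : C) = θ a then 1 else 0
  have hPM : ∀ (B : Matrix (Δ.Res J x) (Δ.Res J x) k) (a b : Δ.Res J x),
      (P * B) a b = B ⟨θ a, hθR a a.2⟩ b := by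
    intro B a b
    rw [Matrix.mul_apply, Finset.sum_eq_single (⟨θ a, hθR a a.2⟩ : Δ.Res J x)]
    · change (if θ (a : C) = θ a then (1 : k) else 0) * _ = _
      rw [if_pos rfl, one_mul]
    · intro c _ hc
      change (if (c : C) = θ a then (1 : k) else 0) * _ = _
      rw [if_neg fun h1 => hc (Subtype.ext h1), zero_mul]
    · intro h1
      exact absurd (Finset.mem_univ _) h1
  have hMP : ∀ (B : Matrix (Δ.Res J x) (Δ.Res J x) k) (a b : Δ.Res J x),
      (B * P) a b = B a ⟨θ.symm b, hθR' b b.2⟩ := by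
    intro B a b
    rw [Matrix.mul_apply, Finset.sum_eq_single (⟨θ.symm b, hθR' b b.2⟩ : Δ.Res J x)]
    · change _ * (if (b : C) = θ (θ.symm b) then (1 : k) else 0) = _
      rw [if_pos (θ.apply_symm_apply _).symm, mul_one]
    · intro c _ hc
      change _ * (if (b : C) = θ c then (1 : k) else 0) = _
      rw [if_neg, mul_zero]
      intro h1
      apply hc
      apply Subtype.ext
      change (c : C) = θ.symm b
      rw [h1, θ.symm_apply_apply]
    · intro h1
      exact absurd (Finset.mem_univ _) h1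
  have hTP : ∀ w, T Δ J x k w * P = P * T Δ J x k (φ w) := by
    intro w
    ext a b
    rw [hPM, hMP, T_apply, T_apply]
    have h1 : Δ.δ (a : C) (θ.symm b) = w ↔ Δ.δ (θ a) (b : C) = φ w := by
      rw [← θ.apply_symm_apply (b : C), hθ, θ.symm_apply_apply]
      exact φ.injective.eq_iff.symm
    by_cases h2 : Δ.δ (a : C) (θ.symm b) = w
    · rw [if_pos h2]
      exact (if_pos (h1.1 h2)).symm
    · rw [if_neg h2]
      exact (if_neg fun h3 => h2 (h1.2 h3)).symm
  have hEP : ∀ w, E Δ J x k w * P = P * E Δ J x k (φ w) := by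
    intro w
    rw [E, E, smul_mul_assoc, hTP, mul_smul_comm, length_φ hφ hL hσL]
  have hEPn : ∀ (n : ℕ) (w : W), E Δ J x k w * P ^ n = P ^ n * E Δ J x k (φ^[n] w) := by
    intro n
    induction n with
    | zero => intro w; rw [pow_zero, one_mul, mul_one]; rfl
    | succ n ih =>
      intro w
      rw [pow_succ', ← mul_assoc, hEP, mul_assoc, ih, ← mul_assoc, ← pow_succ', Function.iterate_succ_apply]
  -- the longest element
  set e := E Δ J x k (wJ cs J) with he
  have heP : e * P = P * e := by rw [he, hEP, φ_wJ hφ hL hσL hJ]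
  have heP' : Commute e P := heP
  have hee : e * e = e := E_mul_wJ hq (F.wJ_mem J)
  -- the operators for full elements
  have key : ∀ v ∈ WJ cs J, Full cs σ J v → (P * E Δ J x k v).trace = (P * e).trace := by
    intro v hv hfull
    obtain ⟨ω, hω, hred, hvω⟩ := Tits.Exchange.exists_reduced_of_mem_WJ cs hv
    set A := P * E Δ J x k v with hA
    have hstep : ∀ (n : ℕ) (w : W), w ∈ WJ cs J → A ^ n = P ^ n * E Δ J x k w →
        ∃ w' ∈ WJ cs J, A ^ (n + 1) = P ^ (n + 1) * E Δ J x k w' ∧ cs.length w ≤ cs.length w' ∧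
          (cs.length w' = cs.length w → w' = w ∧ φ^[n] v ∈ WJ cs (Dsc cs J w)) := by
      intro n w hw h
      obtain ⟨w', hw', h1, h2, h3⟩ := E_mul (k := k) hq (mem_WJ_iter hφ hL hσL hJ hv n) hw
      refine ⟨w', hw', ?_, h2, h3⟩
      rw [pow_succ', h, hA, mul_assoc, ← mul_assoc (E Δ J x k v), hEPn, mul_assoc (P ^ n), h1, ← mul_assoc,
        ← pow_succ']
    have hgrow : ∀ (n : ℕ) (w : W), w ∈ WJ cs J → A ^ n = P ^ n * E Δ J x k w → ∀ j : ℕ,
        (∃ w' ∈ WJ cs J, cs.length w < cs.length w' ∧ ∃ m, A ^ m = P ^ m * E Δ J x k w') ∨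
        (A ^ (n + j) = P ^ (n + j) * E Δ J x k w ∧ ∀ i, n ≤ i → i < n + j → φ^[i] v ∈ WJ cs (Dsc cs J w)) := by
      intro n w hw h j
      induction j with
      | zero => exact Or.inr ⟨h, fun i h1 h2 => by omega⟩
      | succ j ih =>
        rcases ih with ih | ⟨h1, h2⟩
        · exact Or.inl ih
        · obtain ⟨w', hw', h3, h4, h5⟩ := hstep (n + j) w hw h1
          rcases h4.eq_or_lt with h6 | h6
          · obtain ⟨h7, h8⟩ := h5 h6.symm
            right
            refine ⟨by rw [← add_assoc, h3, h7], fun i h9 h10 => ?_⟩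
            rcases Nat.lt_or_ge i (n + j) with h11 | h11
            · exact h2 i h9 h11
            · have : i = n + j := by omega
              rw [this]
              exact h8
          · exact Or.inl ⟨w', hw', h6, _, h3⟩
    have hmax : ∀ (n : ℕ) (w : W), w ∈ WJ cs J → A ^ n = P ^ n * E Δ J x k w → w ≠ wJ cs J →
        ∃ w' ∈ WJ cs J, cs.length w < cs.length w' ∧ ∃ m, A ^ m = P ^ m * E Δ J x k w' := by
      intro n w hw h hne
      rcases hgrow n w hw h L with h1 | ⟨-, h1⟩
      · exact h1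
      · exfalso
        apply hne
        have h2 : J ⊆ Dsc cs J w := by
          refine Full.mono hfull hvω.symm hL hσL (n := n) fun i hi m hm1 hm2 => ?_
          have h3 := h1 m hm1 hm2
          rw [← hvω, iter_wordProd hφ] at h3
          have h4 : cs.IsReduced (ω.map σ^[m]) := by
            rw [CoxeterSystem.IsReduced, ← iter_wordProd hφ, length_iter hφ hL hσL, hred.eq, List.length_map]
          exact mem_of_reduced h4 h3 _ (List.mem_map.2 ⟨i, hi, rfl⟩)
        have h3 : w⁻¹ = wJ cs J := by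
          refine F.eq_wJ_of_descents (inv_mem hw) fun j hj => ?_
          have h4 := (h2 hj).2
          rwa [← cs.length_inv, mul_inv_rev, cs.inv_simple, ← cs.length_inv w] at h4
        rw [← inv_inv w, h3, F.wJ_inv]
    have hex : ∃ n, A ^ n = P ^ n * e := by
      by_contra hcon
      push Not at hcon
      have h1 : ∀ m : ℕ, ∃ w ∈ WJ cs J, m ≤ cs.length w ∧ ∃ n, A ^ n = P ^ n * E Δ J x k w := by
        intro m
        induction m with
        | zero => exact ⟨1, one_mem _, Nat.zero_le _, 0, by rw [pow_zero, pow_zero, E_one, one_mul]⟩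
        | succ m ih =>
          obtain ⟨w, hw, h1, n, h2⟩ := ih
          have hne : w ≠ wJ cs J := by
            rintro rfl
            exact hcon n h2
          obtain ⟨w', hw', h3, h4⟩ := hmax n w hw h2 hne
          exact ⟨w', hw', by omega, h4⟩
      obtain ⟨w, hw, h2, -⟩ := h1 (cs.length (wJ cs J) + 1)
      have h3 := (F.longest J).length_le hw
      omega
    obtain ⟨n, hn⟩ := hex
    have hAe : A * e = P * e := by rw [hA, mul_assoc, he, E_mul_wJ hq hv]
    have heA : e * A = P * e := by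
      rw [hA, ← mul_assoc, heP, mul_assoc, he, E_wJ_mul hq hv]
    have hn1 : A ^ (n + 1) = P ^ (n + 1) * e := by
      rw [pow_succ, hn, mul_assoc, heA, ← mul_assoc, ← pow_succ]
    have hD : ∀ m : ℕ, (A - P * e) ^ (m + 1) = A ^ (m + 1) - P ^ (m + 1) * e := by
      intro m
      induction m with
      | zero => rw [zero_add, pow_one, pow_one, pow_one]
      | succ m ih =>
        have h1 : A * (P ^ (m + 1) * e) = P ^ (m + 2) * e := by
          rw [← (heP'.pow_right (m + 1)).eq, ← mul_assoc, hAe, mul_assoc, (heP'.pow_right (m + 1)).eq, ← mul_assoc,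
            ← pow_succ']
        have h2 : ∀ l : ℕ, e * A ^ l = P ^ l * e := by
          intro l
          induction l with
          | zero => rw [pow_zero, pow_zero, mul_one, one_mul]
          | succ l ih2 => rw [pow_succ, ← mul_assoc, ih2, mul_assoc, heA, ← mul_assoc, ← pow_succ]
        have h3 : P * e * A ^ (m + 1) = P ^ (m + 2) * e := by
          rw [mul_assoc, h2, ← mul_assoc, ← pow_succ']
        have h4 : P * e * (P ^ (m + 1) * e) = P ^ (m + 2) * e := by
          rw [mul_assoc, ← mul_assoc e, (heP'.pow_right (m + 1)).eq, mul_assoc (P ^ (m + 1)), hee, ← mul_assoc,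
            ← pow_succ']
        rw [pow_succ', ih, sub_mul, mul_sub, mul_sub, ← pow_succ', h1, h3, h4, sub_self, sub_zero]
    have hnil : IsNilpotent (A - P * e) := ⟨n + 1, by rw [hD, hn1, sub_self]⟩
    have h0 := (Matrix.isNilpotent_trace_of_isNilpotent hnil).eq_zero
    rwa [Matrix.trace_sub, sub_eq_zero] at h0
  -- the number of chambers with given displacement
  have htr : ∀ v : W, (P * T Δ J x k v).trace = ((Finset.univ.filter fun a : Δ.Res J x => Δ.δ (θ a) (a : C) = v).card : k) := by
    intro v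
    rw [Matrix.trace, Finset.card_filter, Nat.cast_sum]
    refine Finset.sum_congr rfl fun a _ => ?_
    rw [Matrix.diag_apply, hPM, T_apply, Nat.cast_ite, Nat.cast_one, Nat.cast_zero]
  have htrE : ∀ v : W, (P * E Δ J x k v).trace = (-1 : k) ^ cs.length v * (P * T Δ J x k v).trace := by
    intro v
    rw [E, mul_smul_comm, Matrix.trace_smul, smul_eq_mul]
  have hne : (P * e).trace ≠ 0 := by
    intro h0
    have h1 : ∀ v ∈ WJ cs J, Full cs σ J v → (P * T Δ J x k v).trace = 0 := by
      intro v hv hfull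
      have h2 := key v hv hfull
      rw [h0, htrE] at h2
      exact (mul_eq_zero.1 h2).resolve_left (pow_ne_zero _ (neg_ne_zero.2 one_ne_zero))
    have h2 := card_Res (k := k) hq
    have h3 : Fintype.card (Δ.Res J x) = ∑ w ∈ Finset.univ.image (fun a : Δ.Res J x => Δ.δ (θ a) (a : C)),
        (Finset.univ.filter fun a : Δ.Res J x => Δ.δ (θ a) (a : C) = w).card := by
      rw [← Finset.card_univ]
      exact Finset.card_eq_sum_card_image _ _
    rw [h3, Nat.cast_sum, Finset.sum_eq_zero] at h2
    · exact zero_ne_one h2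
    · intro w hw
      obtain ⟨a, -, rfl⟩ := Finset.mem_image.1 hw
      rw [← htr]
      have h4 : Δ.δ (θ a) (a : C) = (Δ.δ (a : C) (θ a))⁻¹ := Δ.symm _ _
      refine h1 _ ?_ ?_
      · exact delta_mem_of_Res (hθR a a.2) a.2
      · rw [h4]
        exact (hmin a a.2).inv
  have h1 := key v⁻¹ (inv_mem hv) hfull.inv
  rw [htrE] at h1
  have h2 : (P * T Δ J x k v⁻¹).trace ≠ 0 := by
    intro h3
    rw [h3, mul_zero] at h1
    exact hne h1.symm
  rw [htr] at h2
  have h3 : (Finset.univ.filter fun a : Δ.Res J x => Δ.δ (θ a) (a : C) = v⁻¹).card ≠ 0 := by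
    intro h4
    rw [h4, Nat.cast_zero] at h2
    exact h2 rfl
  obtain ⟨a, ha⟩ := Finset.card_ne_zero.1 h3
  refine ⟨a, a.2, ?_⟩
  rw [Δ.symm (θ a) (a : C), (Finset.mem_filter.1 ha).2, inv_inv]

end Main

end Cfsg.Agent.H864.TrHecke
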