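import Mathlib
import Cfsg.Agent.H864.TrHecke
import Cfsg.Agent.FixBN.Disp
import Cfsg.Agent.FixBN.Par
import Cfsg.Agent.FixBN.TraceSys

/-!
# Displacements of automorphisms which fix no `p`-element

`exists_disp_all` : `τ` an automorphism of finite order of a finite group with a split BN-pair of characteristic `p`, which
fixes no element of order `p`: every element of the Weyl group which is in no proper `σ`-stable standard parabolic subgroup is
a displacement.
-/

set_option autoImplicit false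
set_option linter.unusedSectionVars false

namespace Cfsg.Agent.H864.TrExt

open Cfsg.Agent.Tits.Core Cfsg.Agent.Tits.Core.Bldg Cfsg.Agent.Tits.OppRes Cfsg.Agent.FixBN
open Cfsg.Agent.H864.TrHecke

variable {I : Type*} {M : CoxeterMatrix I} {W : Type*} [Group W] {cs : CoxeterSystem M W} {C : Type*}

section Gal

variable (Δ : Bldg cs C)

/-- galleries of given type -/
inductive Gal : List I → C → C → Prop
  | nil (x : C) : Gal [] x x
  | cons {i : I} {ω : List I} {x y z : C} (h : Δ.δ x y = cs.simple i) (h' : Gal ω y z) : Gal (i :: ω) x z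

variable {Δ}

theorem Gal.delta {ω : List I} {x z : C} (h : Gal Δ ω x z) (hω : cs.IsReduced ω) : Δ.δ x z = cs.wordProd ω := by
  induction h with
  | nil x => rw [cs.wordProd_nil]; exact (Δ.eq_one _ _).2 rfl
  | @cons i ω x y z h h' ih =>
    have hred' : cs.IsReduced ω := by
      have := hω.drop 1
      simpa using this
    rw [cs.wordProd_cons]
    refine Δ.δ_mul_of h (ih hred') ?_
    rw [← cs.wordProd_cons, hω.eq, hred'.eq, cs.length_simple, List.length_cons, add_comm]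

end Gal

section Walk

variable {Δ : Bldg cs C} [F : Tits.OppRes.Cox cs]

/-- one can stay at the same distance if the distance is not minimal in the panel. -/
theorem exists_stay (hth : Δ.Thick) {y x : C} {w : W} {i : I} (h : Δ.δ y x = w)
    (hw : cs.length (w * cs.simple i) < cs.length w) : ∃ x1, Δ.δ x x1 = cs.simple i ∧ Δ.δ y x1 = w := by
  obtain ⟨x0, h0, h0'⟩ := Δ.exists_step y x i
  rw [h] at h0'
  obtain ⟨x1, h1, h2, h3⟩ := hth.exists_third (i := i) (x := x) x x0
  have h4 : Δ.δ x x1 = cs.simple i := by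
    rcases h1 with h1 | h1
    · exact absurd h1 h2
    · exact h1
  have h5 : Δ.δ x0 x1 = cs.simple i := by
    have h6 : x1 ∈ Δ.Pan i x0 := by
      rw [Δ.Pan_eq_of_mem (Δ.mem_Pan_of_δ h0)]
      exact h1
    rcases h6 with h6 | h6
    · exact absurd h6 h3
    · exact h6
  refine ⟨x1, h4, ?_⟩
  have h7 := Δ.step_lt y x0 x1 i h5 (by
    rw [h0', mul_assoc, cs.simple_mul_simple_self, mul_one]
    exact hw)
  rw [h7, h0', mul_assoc, cs.simple_mul_simple_self, mul_one]

/-- The walk along a given word. -/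
theorem exists_walk (hth : Δ.Thick) (J : Set I) (ω : List I) : ∃ a ∈ WJ cs J,
    (∀ K : Set I, a ∈ WJ cs K → ∀ s ∈ ω, ∀ j ∈ J, dJ cs J * cs.simple s = cs.simple j * dJ cs J → j ∈ K) ∧
    ∀ y x : C, Δ.δ y x = a⁻¹ * dJ cs J → ∃ z, Gal Δ ω x z ∧ Δ.δ y z = dJ cs J := by
  induction ω with
  | nil =>
    refine ⟨1, one_mem _, fun K _ s hs => absurd hs (by simp), fun y x h => ⟨x, Gal.nil x, ?_⟩⟩
    rw [h, inv_one, one_mul]
  | cons s ω ih =>
    obtain ⟨a, ha, ha1, ha2⟩ := ih
    have hlen : ∀ b ∈ WJ cs J, cs.length (b * dJ cs J) = cs.length b + cs.length (dJ cs J) := fun b hb => F.len_mul_dJ hb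
    by_cases hs : s ∈ Tits.Core.op cs '' J
    · -- `d s = j d`
      obtain ⟨j, hj, he⟩ : ∃ j ∈ J, dJ cs J * cs.simple s = cs.simple j * dJ cs J := by
        have h1 := F.dJ_conj_mem (simple_mem_WJ (cs := cs) hs)
        have h2 := F.len_dJ_conj (simple_mem_WJ (cs := cs) hs)
        rw [cs.length_simple] at h2
        obtain ⟨j, hj⟩ := cs.length_eq_one_iff.1 h2
        rw [hj] at h1
        refine ⟨j, Cfsg.Agent.FixBN.Cox.mem_of_simple_mem h1, ?_⟩
        rw [← hj, inv_mul_cancel_right]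
      have hainv : cs.length (a⁻¹ * cs.simple j) = cs.length (cs.simple j * a) := by
        rw [← cs.length_inv, mul_inv_rev, inv_inv, cs.inv_simple]
      by_cases hlt : cs.length (cs.simple j * a) < cs.length a
      · refine ⟨a, ha, ?_, ?_⟩
        · intro K hK t ht j' hj' he'
          rcases List.mem_cons.1 ht with rfl | ht
          · have h1 : j' = j := by
              apply F.inj
              rw [he] at he'
              exact (mul_right_cancel he').symm
            rw [h1]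
            apply F.descent_mem K a⁻¹ (inv_mem hK) j
            rw [hainv, cs.length_inv]
            exact hlt
          · exact ha1 K hK t ht j' hj' he'
        · intro y x h
          obtain ⟨x1, h1, h2⟩ := exists_stay hth h (i := s) (by
            rw [mul_assoc, he, ← mul_assoc, hlen _ (mul_mem (inv_mem ha) (simple_mem_WJ hj)), hlen _ (inv_mem ha),
              hainv, cs.length_inv]
            omega)
          obtain ⟨z, h3, h4⟩ := ha2 y x1 h2
          exact ⟨z, Gal.cons h1 h3, h4⟩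
      · have hlt' : cs.length a < cs.length (cs.simple j * a) :=
          lt_of_le_of_ne (not_lt.1 hlt) (cs.length_simple_mul_ne a j).symm
        refine ⟨cs.simple j * a, mul_mem (simple_mem_WJ hj) ha, ?_, ?_⟩
        · intro K hK t ht j' hj' he'
          have hjK : j ∈ K := by
            apply F.descent_mem K (cs.simple j * a)⁻¹ (inv_mem hK) j
            rw [mul_inv_rev, cs.inv_simple, mul_assoc, cs.simple_mul_simple_self, mul_one, cs.length_inv, hainv]
            exact hlt'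
          rcases List.mem_cons.1 ht with rfl | ht
          · have h1 : j' = j := by
              apply F.inj
              rw [he] at he'
              exact (mul_right_cancel he').symm
            rw [h1]
            exact hjK
          · refine ha1 K ?_ t ht j' hj' he'
            have h2 := mul_mem (simple_mem_WJ (cs := cs) hjK) hK
            rwa [← mul_assoc, cs.simple_mul_simple_self, one_mul] at h2
        · intro y x h
          obtain ⟨x1, h1, h2⟩ := Δ.exists_step y x s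
          rw [h, mul_inv_rev, cs.inv_simple, mul_assoc, mul_assoc, he, ← mul_assoc (cs.simple j), cs.simple_mul_simple_self,
            one_mul] at h2
          obtain ⟨z, h3, h4⟩ := ha2 y x1 h2
          exact ⟨z, Gal.cons h1 h3, h4⟩
    · have hd := F.dJ_descent hs
      refine ⟨a, ha, ?_, ?_⟩
      · intro K hK t ht j' hj' he'
        rcases List.mem_cons.1 ht with rfl | ht
        · exfalso
          rw [he', hlen _ (simple_mem_WJ hj'), cs.length_simple] at hd
          omega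
        · exact ha1 K hK t ht j' hj' he'
      · intro y x h
        obtain ⟨x1, h1, h2⟩ := exists_stay hth h (i := s) (by
          have h3 := cs.length_mul_le a⁻¹ (dJ cs J * cs.simple s)
          rw [mul_assoc, hlen _ (inv_mem ha)]
          omega)
        obtain ⟨z, h3, h4⟩ := ha2 y x1 h2
        exact ⟨z, Gal.cons h1 h3, h4⟩

end Walk

section Rad

variable {Δ : Bldg cs C} {G : Type*} [Group G] [MulAction G C] {p : ℕ} (S : Sys Δ G p) [F : Tits.OppRes.Cox cs]

include S

/-- The unipotent radical is transitive on the chambers `z` with `δ(y, z) = d_J`. -/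
theorem exists_UR (hth : Δ.Thick) {J : Set I} {x y z z' : C} (hy : y ∈ Δ.Res J x) (h : Δ.δ y z = dJ cs J)
    (h' : Δ.δ y z' = dJ cs J) : ∃ u ∈ S.UR (Δ.Res J x), u • z = z' := by
  obtain ⟨y0, hy0⟩ := Δ.exists_δ y (wJ cs J)
  have hy0' : Δ.δ y0 y = wJ cs J := by rw [Δ.symm y y0, hy0, F.wJ_inv]
  have hopp : ∀ z, Δ.δ y z = dJ cs J → Δ.Opp y0 z := by
    intro z hz
    have h1 := Δ.δ_mul_of hy0' hz (F.len_mul_dJ (F.wJ_mem J))
    rw [F.wJ_mul_dJ] at h1
    exact h1
  obtain ⟨u, hu, huz⟩ := S.trans y0 z z' (hopp z h) (hopp z' h')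
  have h1 : u • y = y := by
    have h2 : Δ.δ y0 (u • y) = wJ cs J := by
      have := S.iso u y0 y
      rw [S.fix y0 u hu, hy0'] at this
      exact this
    have h3 : Δ.δ (u • y) z' = dJ cs J := by
      rw [← huz, S.iso, h]
    have h4 : ∀ y', Δ.δ y' z' = dJ cs J → Δ.δ z' y' = (dJ cs J)⁻¹ := by
      intro y' h5
      rw [Δ.symm y' z', h5]
    refine eq_of_isMinR (T := J) (v := (dJ cs J)⁻¹) ?_ (h4 _ h') (h4 _ h3) ?_
    · rw [Tits.Exchange.isMinR_inv_iff]
      intro b hb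
      exact F.len_mul_dJ hb
    · have h5 : y0 ∈ Δ.Res J y := by rw [mem_Res, hy0]; exact F.wJ_mem J
      refine Δ.mem_Res_trans h5 ?_
      rw [mem_Res, h2]
      exact F.wJ_mem J
  have h2 := S.mem_UR_of_fix hth hu hy0' h1
  refine ⟨u, ?_, huz⟩
  have h3 : Δ.Res J y0 = Δ.Res J x := by
    rw [Δ.Res_eq_of_mem (x := y) (by rw [mem_Res, hy0]; exact F.wJ_mem J), Δ.Res_eq_of_mem hy]
  rwa [h3] at h2

variable {τ : G ≃* G} {θ : C ≃ C} (hτ : ∀ (g : G) x, θ (g • x) = τ g • θ x)

include hτ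

omit F in
theorem map_mem_U {g : G} {x : C} (hg : g ∈ S.U x) : τ g ∈ S.U (θ x) := by
  have h1 : IsPGroup p ((S.U x).map τ.toMonoidHom) := (S.isP x).map _
  refine S.max (θ x) _ h1 ?_ ⟨g, hg, rfl⟩
  rintro _ ⟨v, hv, rfl⟩
  change τ v • θ x = θ x
  rw [← hτ, S.fix x v hv]

omit F in
theorem map_mem_UR {g : G} {Q : Set C} (hQ : ∀ x ∈ Q, ∃ y ∈ Q, θ y = x) (hg : g ∈ S.UR Q) : τ g ∈ S.UR Q := by
  intro x hx
  obtain ⟨y, hy, rfl⟩ := hQ x hx
  exact map_mem_U S hτ (hg y hy)

end Rad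

section Main

variable {Δ : Bldg cs C} {G : Type*} [Group G] [Finite G] [MulAction G C] [Finite C] {p : ℕ} [hp : Fact p.Prime]
  (S : Sys Δ G p) [F : Tits.OppRes.Cox cs] {τ : G ≃* G} {θ : C ≃ C} {φ : W ≃* W} {σ : I → I}

/-- **Displacements.** -/
theorem exists_disp_all (S : Sys Δ G p) (hth : Δ.Thick) (hτ : ∀ (g : G) x, θ (g • x) = τ g • θ x)
    (hφ : ∀ i, φ (cs.simple i) = cs.simple (σ i)) {L : ℕ} (hL : 0 < L) (hσL : ∀ i, σ^[L] i = i)
    (hθ : ∀ a b, Δ.δ (θ a) (θ b) = φ (Δ.δ a b)) (hfix : ∀ g : G, τ g = g → g ^ p = 1 → g = 1) {ω : List I}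
    (hred : cs.IsReduced ω) (hω : ∀ K : Set I, (∀ i ∈ K, σ i ∈ K) → (∀ i ∈ ω, i ∈ K) → ∀ i, i ∈ K) [Nonempty C] :
    ∃ x, Δ.δ x (θ x) = cs.wordProd ω := by
  classical
  -- a minimal stable residue
  obtain ⟨J, x, hJ, hx, hmin0⟩ : ∃ (J : Set I) (x : C), (∀ i ∈ J, σ i ∈ J) ∧ θ x ∈ Δ.Res J x ∧
      ∀ (K : Set I) (y : C), (∀ i ∈ K, σ i ∈ K) → θ y ∈ Δ.Res K y → (Δ.Res J x).ncard ≤ (Δ.Res K y).ncard := by
    obtain ⟨x0⟩ := (inferInstance : Nonempty C)
    have hex : ∃ n, ∃ (J : Set I) (x : C), (∀ i ∈ J, σ i ∈ J) ∧ θ x ∈ Δ.Res J x ∧ (Δ.Res J x).ncard = n :=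
      ⟨_, Set.univ, x0, fun _ _ => trivial, by rw [Δ.Res_univ]; trivial, rfl⟩
    obtain ⟨J, x, h1, h2, h3⟩ := Nat.find_spec hex
    refine ⟨J, x, h1, h2, fun K y hK hy => ?_⟩
    rw [h3]
    exact Nat.find_min' hex ⟨K, y, hK, hy, rfl⟩
  have hθR : ∀ a ∈ Δ.Res J x, θ a ∈ Δ.Res J x := by
    intro a ha
    refine Δ.mem_Res_trans hx ?_
    rw [mem_Res, hθ]
    exact Cfsg.Agent.FixBN.Cox.mem_WJ_map hφ hJ ha
  have hsurj : ∀ a ∈ Δ.Res J x, ∃ b ∈ Δ.Res J x, θ b = a := by
    have h1 : θ '' (Δ.Res J x) = Δ.Res J x := by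
      apply Set.eq_of_subset_of_ncard_le
      · rintro _ ⟨a, ha, rfl⟩
        exact hθR a ha
      · rw [Set.ncard_image_of_injective _ θ.injective]
      · exact Set.toFinite _
    intro a ha
    rw [← h1] at ha
    obtain ⟨b, hb, rfl⟩ := ha
    exact ⟨b, hb, rfl⟩
  have hmin : ∀ a ∈ Δ.Res J x, Full cs σ J (Δ.δ a (θ a)) := by
    intro a ha K hK hδ
    have h1 : Δ.δ a (θ a) ∈ WJ cs (J ∩ K) := F.WJ_inter (Δ.δ_mem_of_mem_Res ha (hθR a ha)) hδ
    have h2 := hmin0 (J ∩ K) a (fun i hi => ⟨hJ i hi.1, hK i hi.2⟩) h1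
    have h3 : Δ.Res (J ∩ K) a ⊆ Δ.Res J x := by
      rw [← Δ.Res_eq_of_mem ha]
      exact Δ.Res_mono Set.inter_subset_left a
    have h4 := Set.eq_of_subset_of_ncard_le h3 h2 (Set.toFinite _)
    intro i hi
    obtain ⟨b, hb⟩ := Δ.exists_δ a (cs.simple i)
    have h5 : b ∈ Δ.Res (J ∩ K) a := by
      rw [h4, ← Δ.Res_eq_of_mem ha, mem_Res, hb]
      exact simple_mem_WJ hi
    rw [mem_Res, hb] at h5
    exact (Cfsg.Agent.FixBN.Cox.mem_of_simple_mem h5).2
  -- the action on the unipotent radical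
  have hQp : IsPGroup p (S.UR (Δ.Res J x)) := S.UR_isP ⟨x, Δ.self_mem_Res _ _⟩
  have hQτ : ∀ u ∈ S.UR (Δ.Res J x), τ u ∈ S.UR (Δ.Res J x) := fun u hu => map_mem_UR S hτ hsurj hu
  have hQfix : ∀ u ∈ S.UR (Δ.Res J x), τ u = u → u = 1 := by
    intro u hu hτu
    by_contra hne
    obtain ⟨k, hk⟩ := (IsPGroup.iff_orderOf.1 hQp) ⟨u, hu⟩
    rw [Subgroup.orderOf_mk] at hk
    have hk0 : k ≠ 0 := by
      rintro rfl
      rw [pow_zero, orderOf_eq_one_iff] at hk
      exact hne hk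
    obtain ⟨m, rfl⟩ : ∃ m, k = m + 1 := ⟨k - 1, by omega⟩
    have h1 := hfix (u ^ p ^ m) (by rw [map_pow, hτu]) (by
      rw [← pow_mul, ← pow_succ, ← hk, pow_orderOf_eq_one])
    have h2 := orderOf_dvd_of_pow_eq_one h1
    rw [hk] at h2
    have h3 := Nat.le_of_dvd (pow_pos hp.out.pos _) h2
    have h4 : p ^ m < p ^ (m + 1) := Nat.pow_lt_pow_right hp.out.one_lt (Nat.lt_succ_self m)
    exact absurd h3 (not_le.2 h4)
  have hQsurj : ∀ u ∈ S.UR (Δ.Res J x), ∃ v ∈ S.UR (Δ.Res J x), u = v * (τ v)⁻¹ := by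
    let f : S.UR (Δ.Res J x) → S.UR (Δ.Res J x) := fun v => ⟨v * (τ v)⁻¹, mul_mem v.2 (inv_mem (hQτ v v.2))⟩
    have hf : Function.Injective f := by
      intro v w hvw
      have h1 : (v : G) * (τ v)⁻¹ = w * (τ w)⁻¹ := congrArg Subtype.val hvw
      have h2 : τ ((w : G)⁻¹ * v) = (w : G)⁻¹ * v := by
        rw [map_mul, map_inv]
        have h3 : (w : G)⁻¹ * v = (τ w)⁻¹ * τ v := by
          rw [inv_mul_eq_iff_eq_mul, ← mul_assoc, ← h1, inv_mul_cancel_right]
        exact h3.symm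
      have h3 := hQfix _ (mul_mem (inv_mem w.2) v.2) h2
      rw [inv_mul_eq_one] at h3
      exact Subtype.ext h3.symm
    intro u hu
    obtain ⟨v, hv⟩ := Finite.surjective_of_injective hf ⟨u, hu⟩
    exact ⟨v, v.2, (congrArg Subtype.val hv).symm⟩
  -- the element of `W_J`
  obtain ⟨a, ha, ha1, ha2⟩ := exists_walk (Δ := Δ) hth J ω
  have hφd : φ (dJ cs J) = dJ cs J := by
    rw [dJ, map_mul, φ_wJ hφ hL hσL hJ]
    congr 1
    exact φ_wJ hφ hL hσL (fun _ _ => trivial)
  have hfull : Full cs σ J a := by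
    intro K hK haK
    have h1 := hω {s | ∀ j ∈ J, dJ cs J * cs.simple s = cs.simple j * dJ cs J → j ∈ K} (by
      intro s hs j hj he
      -- `j = σ j'`
      obtain ⟨l, rfl⟩ : ∃ l, L = l + 1 := ⟨L - 1, by omega⟩
      have hj' : σ^[l] j ∈ J := by
        have : ∀ n, σ^[n] j ∈ J := by
          intro n
          induction n with
          | zero => exact hj
          | succ n ih => rw [Function.iterate_succ_apply']; exact hJ _ ih
        exact this l
      have hσj : σ (σ^[l] j) = j := by rw [← Function.iterate_succ_apply' σ l j]; exact hσL j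
      have h2 := hs _ hj' (by
        apply φ.injective
        rw [map_mul, map_mul, hφd, hφ, hφ, hσj]
        exact he)
      have h3 := hK _ h2
      rwa [hσj] at h3) (fun s hs j hj he => ha1 K haK s hs j hj he)
    intro j hj
    have h2 := F.dJ_inv_conj_mem (simple_mem_WJ (cs := cs) hj)
    have h3 := F.len_dJ_conj h2
    have h4 : dJ cs J * ((dJ cs J)⁻¹ * cs.simple j * dJ cs J) * (dJ cs J)⁻¹ = cs.simple j := by group
    rw [h4, cs.length_simple] at h3
    obtain ⟨s, hs⟩ := cs.length_eq_one_iff.1 h3.symm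
    refine h1 s j hj ?_
    rw [← hs]
    group
  have hfinR : Finite (Δ.Res J x) := inferInstance
  obtain ⟨y, hy, hya⟩ := exists_disp (p := p) hφ hL hσL hJ hθ hθR hmin
    (fun i _ b _ => S.card_Pan_eq hth b i) ha hfull
  -- the walk
  obtain ⟨x1, hx1⟩ := Δ.exists_δ y (dJ cs J)
  have h1 : Δ.δ (θ y) x1 = a⁻¹ * dJ cs J := by
    refine Δ.δ_mul_of ?_ hx1 (F.len_mul_dJ (inv_mem ha))
    rw [Δ.symm y (θ y), hya]
  obtain ⟨z, hz, hz'⟩ := ha2 (θ y) x1 h1
  have h2 : Δ.δ (θ y) (θ x1) = dJ cs J := by rw [hθ, hx1, hφd]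
  obtain ⟨u, hu, huz⟩ := exists_UR S hth (hθR y hy) h2 hz'
  obtain ⟨v, hv, huv⟩ := hQsurj u hu
  refine ⟨v⁻¹ • x1, ?_⟩
  rw [← hz.delta hred, hτ, map_inv, ← S.iso v, smul_inv_smul, ← mul_smul, ← huv, huz]

end Main

end Cfsg.Agent.H864.TrExt
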