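import Mathlib
import Cfsg.Agent.H864.TrExt
import Cfsg.Agent.H864.TrAct
import Cfsg.Agent.FixBN.OfBN
import Cfsg.Agent.Tits.OfBN
import Cfsg.Agent.LieRecognition.CoxForm

/-!
# Automorphisms of small order fix `p`-elements

`false_of_three` : an automorphism `z`, `z ^ 3 = 1`, of a finite group with a split (B, N)-pair of characteristic `p` whose
Coxeter diagram is large enough fixes an element of order `p`.
`false_of_word` : the general version.
-/

set_option autoImplicit false
set_option linter.unusedSectionVars false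

namespace Cfsg.Agent.H864.TrThree

open Cfsg.Agent.Tits.Core Cfsg.Agent.Tits.Core.Bldg Cfsg.Agent.Tits.OfBN Cfsg.Agent.FixBN Cfsg.Agent.H864.TrHecke

section Bld

variable {I : Type*} {M : CoxeterMatrix I} {W : Type*} [Group W] {cs : CoxeterSystem M W} {C : Type*}
variable {Δ : Bldg cs C} {θ : C ≃ C} {φ : W ≃* W} {σ : I → I}

/-- The product of the first `k` twists of a word. -/
def tw (cs : CoxeterSystem M W) (σ : I → I) (ω : List I) (k : ℕ) : W :=
  ((List.range k).map fun i => cs.wordProd (ω.map σ^[i])).prod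

theorem tw_succ (cs : CoxeterSystem M W) (σ : I → I) (ω : List I) (k : ℕ) :
    tw cs σ ω (k + 1) = tw cs σ ω k * cs.wordProd (ω.map σ^[k]) := by
  rw [tw, tw, List.range_succ, List.map_append, List.prod_append]
  simp

theorem length_tw_le (cs : CoxeterSystem M W) (σ : I → I) (ω : List I) (k : ℕ) :
    cs.length (tw cs σ ω k) ≤ k * ω.length := by
  induction k with
  | zero => simp [tw]
  | succ k ih =>
    rw [tw_succ]
    have h1 := cs.length_mul_le (tw cs σ ω k) (cs.wordProd (ω.map σ^[k]))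
    have h2 := cs.length_wordProd_le (ω.map σ^[k])
    rw [List.length_map] at h2
    rw [add_mul, one_mul]
    omega

theorem length_tw {ω : List I} {k : ℕ} (hk : cs.length (tw cs σ ω k) = k * ω.length) :
    ∀ j ≤ k, cs.length (tw cs σ ω j) = j * ω.length := by
  induction k with
  | zero =>
    intro j hj
    obtain rfl : j = 0 := by omega
    simp [tw]
  | succ k ih =>
    have h1 := cs.length_mul_le (tw cs σ ω k) (cs.wordProd (ω.map σ^[k]))
    have h2 := cs.length_wordProd_le (ω.map σ^[k])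
    rw [List.length_map] at h2
    have hk' := hk
    rw [tw_succ] at hk
    have h3 := length_tw_le cs σ ω k
    rw [hk, add_mul, one_mul] at h1
    have h4 := ih (by omega)
    intro j hj
    rcases Nat.lt_or_ge k j with h5 | h5
    · obtain rfl : j = k + 1 := by omega
      exact hk'
    · exact h4 j h5

theorem reduced_of_tw {ω : List I} {k : ℕ} (hk : cs.length (tw cs σ ω k) = k * ω.length) (h1 : 1 ≤ k) :
    cs.IsReduced ω := by
  have h2 := length_tw hk 1 h1
  rw [tw_succ, one_mul] at h2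
  have h3 : tw cs σ ω 0 * cs.wordProd (ω.map σ^[0]) = cs.wordProd ω := by
    simp [tw]
  rw [h3] at h2
  exact h2

/-- The distance of `x` and `θ^k x`. -/
theorem delta_iter (hφ : ∀ i, φ (cs.simple i) = cs.simple (σ i))
    (hθ : ∀ a b, Δ.δ (θ a) (θ b) = φ (Δ.δ a b)) {x : C} {ω : List I}
    (hx : Δ.δ x (θ x) = cs.wordProd ω) {k : ℕ} (hk : cs.length (tw cs σ ω k) = k * ω.length) :
    ∀ j ≤ k, Δ.δ x (θ^[j] x) = tw cs σ ω j ∧ cs.length (tw cs σ ω j) = j * ω.length := by
  have hlen := length_tw hk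
  have hstep : ∀ j : ℕ, Δ.δ (θ^[j] x) (θ^[j + 1] x) = cs.wordProd (ω.map σ^[j]) := by
    intro j
    rw [← iter_wordProd hφ, ← hx]
    induction j with
    | zero => rfl
    | succ j ih =>
      rw [Function.iterate_succ_apply', Function.iterate_succ_apply' _ (j + 1), hθ, ih, Function.iterate_succ_apply']
  intro j
  induction j with
  | zero =>
    intro _
    refine ⟨?_, by simp [tw]⟩
    rw [tw]
    simp only [List.range_zero, List.map_nil, List.prod_nil]
    exact (Δ.eq_one _ _).2 rfl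
  | succ j ih =>
    intro hj
    obtain ⟨h1, h2⟩ := ih (by omega)
    refine ⟨?_, hlen _ hj⟩
    rw [tw_succ]
    refine Δ.δ_mul_of h1 (hstep j) ?_
    have h3 := hlen _ hj
    have h4 := cs.length_mul_le (tw cs σ ω j) (cs.wordProd (ω.map σ^[j]))
    have h5 := cs.length_wordProd_le (ω.map σ^[j])
    rw [List.length_map] at h5
    rw [tw_succ, add_mul, one_mul] at h3
    omega

/-- No closed polygon. -/
theorem false_of_disp (hφ : ∀ i, φ (cs.simple i) = cs.simple (σ i))
    (hθ : ∀ a b, Δ.δ (θ a) (θ b) = φ (Δ.δ a b)) {x : C} {ω : List I} (hω : ω ≠ [])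
    (hx : Δ.δ x (θ x) = cs.wordProd ω) {k L : ℕ} (hk : cs.length (tw cs σ ω k) = k * ω.length) (hkL : L < 2 * k)
    (hkL' : k ≤ L) (hθL : ∀ x, θ^[L] x = x) (hσL : ∀ i, σ^[L] i = i) : False := by
  have hL : 0 < L := by omega
  obtain ⟨h1, h2⟩ := delta_iter hφ hθ hx hk k le_rfl
  obtain ⟨h3, h4⟩ := delta_iter hφ hθ hx hk (L - k) (by omega)
  have h5 : Δ.δ (θ^[k] x) x = φ^[k] (Δ.δ x (θ^[L - k] x)) := by
    have h6 : ∀ (m : ℕ) (a b : C), Δ.δ (θ^[m] a) (θ^[m] b) = φ^[m] (Δ.δ a b) := by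
      intro m
      induction m with
      | zero => exact fun a b => rfl
      | succ m ih => intro a b; rw [Function.iterate_succ_apply', Function.iterate_succ_apply', hθ, ih,
          Function.iterate_succ_apply']
    rw [← h6, ← Function.iterate_add_apply, Nat.add_sub_cancel' hkL', hθL]
  have h6 : cs.length (Δ.δ x (θ^[k] x)) = cs.length (Δ.δ (θ^[k] x) x) := by
    rw [Δ.symm x (θ^[k] x), cs.length_inv]
  rw [h5, h1, h3, length_iter hφ hL hσL, h2, h4] at h6
  have h7 : 0 < ω.length := List.length_pos_iff.2 hω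
  have h8 := Nat.eq_of_mul_eq_mul_right h7 h6
  omega

end Bld

section Main

variable {K : Type*} [Group K] [Finite K] {p : ℕ} [Fact p.Prime] {P : Cfsg.BNPair K} {U : Subgroup K}

/-- The general version. -/
theorem false_of_word (h : Split P p U) [hN : ((P.B ⊓ P.N).subgroupOf P.N).Normal]
    {I : Type*} {M : CoxeterMatrix I} (e : I ≃ P.S) (cs : CoxeterSystem M (WP P))
    (hcs : ∀ i, cs.simple i = QuotientGroup.mk (⟨(e i : K), P.subset (e i).2⟩ : P.N)) {k L : ℕ} (hkL : L < 2 * k)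
    (hkL' : k ≤ L)
    (hw : ∀ σ : I → I, (∀ i j, M (σ i) (σ j) = M i j) → (∀ i, σ^[L] i = i) →
      ∃ ω : List I, ω ≠ [] ∧ (∀ X : Set I, (∀ i ∈ X, σ i ∈ X) → (∀ i ∈ ω, i ∈ X) → ∀ i, i ∈ X) ∧
        cs.length (tw cs σ ω k) = k * ω.length)
    (z : MulAut K) (hz : z ^ L = 1) (hfix : ∀ s : K, z s = s → s ^ p = 1 → s = 1) : False := by
  classical
  have hI : Finite I := OfBN.finite_I e
  have hfI := Fintype.ofFinite I
  obtain ⟨θ, φ, σ, h1, h2, h3, h4⟩ := TrAct.exists_act h e cs hcs z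
  have hzn : ∀ (n : ℕ) (g : K), z^[n] g = (z ^ n) g := by
    intro n
    induction n with
    | zero => exact fun g => rfl
    | succ n ih => intro g; rw [Function.iterate_succ_apply', ih, pow_succ', MulAut.mul_apply]
  obtain ⟨h5, h6⟩ := h4 L (fun g => by rw [hzn, hz, MulAut.one_apply])
  have hM : ∀ i j, M (σ i) (σ j) = M i j := by
    intro i j
    rw [← LieRecognition.CoxForm.orderOf_eq cs, ← LieRecognition.CoxForm.orderOf_eq cs, ← h2, ← h2, ← map_mul]
    exact MulEquiv.orderOf_eq φ _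
  obtain ⟨ω, hω, hX, hlen⟩ := hw σ hM h6
  have hred : cs.IsReduced ω := reduced_of_tw hlen (by omega)
  obtain ⟨x, hx⟩ := TrExt.exists_disp_all (OfBN.sys e cs hcs h) (thick P e cs hcs) (p := p) h1 h2 (by omega) h6 h3
    (fun g hg => hfix g hg) hred hX
  exact false_of_disp h2 h3 hω hx hlen hkL hkL' h5 h6

/-- **Automorphisms of order three.** -/
theorem false_of_three (h : Split P p U) [hN : ((P.B ⊓ P.N).subgroupOf P.N).Normal]
    {I : Type*} {M : CoxeterMatrix I} (e : I ≃ P.S) (cs : CoxeterSystem M (WP P))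
    (hcs : ∀ i, cs.simple i = QuotientGroup.mk (⟨(e i : K), P.subset (e i).2⟩ : P.N))
    (hw : ∀ σ : I → I, (∀ i j, M (σ i) (σ j) = M i j) → (∀ i, σ (σ (σ i)) = i) →
      ∃ ω : List I, ω ≠ [] ∧ (∀ X : Set I, (∀ i ∈ X, σ i ∈ X) → (∀ i ∈ ω, i ∈ X) → ∀ i, i ∈ X) ∧
        cs.length (cs.wordProd ω) = ω.length ∧
        cs.length (cs.wordProd ω * cs.wordProd (ω.map σ)) = 2 * cs.length (cs.wordProd ω))
    (z : MulAut K) (hz : z ^ 3 = 1) (hfix : ∀ s : K, z s = s → s ^ p = 1 → s = 1) : False := by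
  refine false_of_word h e cs hcs (k := 2) (L := 3) (by norm_num) (by norm_num) ?_ z hz hfix
  intro σ hσ hσ3
  obtain ⟨ω, h1, h2, h3, h4⟩ := hw σ hσ (fun i => hσ3 i)
  refine ⟨ω, h1, h2, ?_⟩
  have h5 : tw cs σ ω 2 = cs.wordProd ω * cs.wordProd (ω.map σ) := by
    rw [tw_succ, tw_succ]
    simp [tw]
  rw [h5, h4, h3]

end Main

end Cfsg.Agent.H864.TrThree
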