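import Mathlib

/-!
# Cyclic vectors of semisimple endomorphisms

`exists_cyclic` : a semisimple endomorphism `f` of a finite-dimensional space which commutes with no `N ≠ 0`, `N ^ 2 = 0`,
has a cyclic vector.
-/

set_option autoImplicit false

namespace Cfsg.Agent.H864.CyclicVec

variable {F V : Type*} [Field F] [AddCommGroup V] [Module F V]

/-- The invariant subspace generated by `v`. -/
def Z (f : Module.End F V) (v : V) : Submodule F V := Submodule.span F (Set.range fun i : ℕ => (f ^ i) v)

theorem mem_Z (f : Module.End F V) (v : V) : v ∈ Z f v := Submodule.subset_span ⟨0, rfl⟩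

theorem map_mem_Z {f : Module.End F V} {v w : V} (hw : w ∈ Z f v) : f w ∈ Z f v := by
  induction hw using Submodule.span_induction with
  | mem x hx =>
    obtain ⟨i, rfl⟩ := hx
    refine Submodule.subset_span ⟨i + 1, ?_⟩
    change (f ^ (i + 1)) v = f ((f ^ i) v)
    rw [pow_succ']
    rfl
  | zero => rw [map_zero]; exact Submodule.zero_mem _
  | add x y _ _ hx hy => rw [map_add]; exact Submodule.add_mem _ hx hy
  | smul a x _ hx => rw [map_smul]; exact Submodule.smul_mem _ _ hx

theorem Z_le {f : Module.End F V} {v : V} {W : Submodule F V} (hv : v ∈ W) (hW : ∀ w ∈ W, f w ∈ W) : Z f v ≤ W := by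
  refine Submodule.span_le.2 ?_
  rintro _ ⟨i, rfl⟩
  change (f ^ i) v ∈ W
  induction i with
  | zero => exact hv
  | succ i ih => rw [pow_succ']; exact hW _ ih

theorem map_Z {f g : Module.End F V} (h : g * f = f * g) (v : V) : (Z f v).map g = Z f (g v) := by
  unfold Z
  rw [Submodule.map_span, ← Set.range_comp]
  congr 2
  funext i
  change g ((f ^ i) v) = (f ^ i) (g v)
  have h1 : g * f ^ i = f ^ i * g := (Commute.pow_right (show Commute g f from h) i)
  exact congrArg (fun e : Module.End F V => e v) h1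

theorem exists_cyclic [FiniteDimensional F V] (f : Module.End F V) (hss : f.IsSemisimple)
    (hN : ∀ N : Module.End F V, N * N = 0 → N * f = f * N → N = 0) :
    ∃ v : V, Z f v = ⊤ := by
  classical
  -- a cyclic subspace of maximal dimension
  obtain ⟨v, hv⟩ : ∃ v : V, ∀ w : V, Module.finrank F (Z f w) ≤ Module.finrank F (Z f v) := by
    have hb : BddAbove (Set.range fun w : V => Module.finrank F (Z f w)) :=
      ⟨Module.finrank F V, by rintro _ ⟨w, rfl⟩; exact Submodule.finrank_le _⟩
    obtain ⟨v, hv⟩ := Nat.sSup_mem (Set.range_nonempty (fun w : V => Module.finrank F (Z f w))) hb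
    refine ⟨v, fun w => ?_⟩
    change _ ≤ (fun w : V => Module.finrank F (Z f w)) v
    rw [hv]
    exact le_csSup hb ⟨w, rfl⟩
  refine ⟨v, ?_⟩
  by_contra htop
  obtain ⟨W', hW', hc⟩ := (Module.End.isSemisimple_iff.1 hss) (Z f v) (fun w hw => map_mem_Z hw)
  have hW'ne : W' ≠ ⊥ := by
    rintro rfl
    apply htop
    have := hc.codisjoint
    rwa [codisjoint_bot] at this
  obtain ⟨w, hw, hw0⟩ := Submodule.exists_mem_ne_zero_of_ne_bot hW'ne
  -- the projection onto `Z f v` along `W'`
  let π : Module.End F V := (Z f v).subtype ∘ₗ Submodule.projectionOnto (Z f v) W' hc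
  have hπ1 : ∀ x ∈ Z f v, π x = x := by
    intro x hx
    change ((Submodule.projectionOnto (Z f v) W' hc x : Z f v) : V) = x
    rw [Submodule.projectionOnto_apply_left hc ⟨x, hx⟩]
  have hπ2 : ∀ x ∈ W', π x = 0 := by
    intro x hx
    change ((Submodule.projectionOnto (Z f v) W' hc x : Z f v) : V) = 0
    rw [Submodule.projectionOnto_apply_right hc ⟨x, hx⟩]
    rfl
  have hπmem : ∀ x, π x ∈ Z f v := fun x => (Submodule.projectionOnto (Z f v) W' hc x).2
  have hdec : ∀ x : V, ∃ a ∈ Z f v, ∃ b ∈ W', x = a + b := by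
    intro x
    have h1 : x ∈ Z f v ⊔ W' := by rw [hc.sup_eq_top]; trivial
    obtain ⟨a, ha, b, hb, rfl⟩ := Submodule.mem_sup.1 h1
    exact ⟨a, ha, b, hb, rfl⟩
  have hπf : π * f = f * π := by
    ext x
    obtain ⟨a, ha, b, hb, rfl⟩ := hdec x
    change π (f (a + b)) = f (π (a + b))
    rw [map_add, map_add, hπ1 _ (map_mem_Z ha), hπ2 _ (hW' hb), map_add, hπ1 a ha, hπ2 b hb, add_zero, add_zero]
  have hcompl : ∀ x, x - π x ∈ W' := by
    intro x
    obtain ⟨a, ha, b, hb, rfl⟩ := hdec x
    rw [map_add, hπ1 a ha, hπ2 b hb, add_zero, add_sub_cancel_left]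
    exact hb
  -- the restriction of `π` to `Z f (v + w)` is bijective onto `Z f v`
  have hmap : (Z f (v + w)).map π = Z f v := by
    rw [map_Z hπf, map_add, hπ1 v (mem_Z f v), hπ2 w hw, add_zero]
  let πr : Z f (v + w) →ₗ[F] Z f v := π.restrict (p := Z f (v + w)) (q := Z f v) (fun x _ => hπmem x)
  have hsurj : Function.Surjective πr := by
    rintro ⟨y, hy⟩
    rw [← hmap] at hy
    obtain ⟨x, hx, rfl⟩ := hy
    exact ⟨⟨x, hx⟩, rfl⟩
  have hinj : Function.Injective πr := by
    have h1 : Module.finrank F (Z f (v + w)) = Module.finrank F (Z f v) :=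
      le_antisymm (hv _) (LinearMap.finrank_le_finrank_of_surjective hsurj)
    exact (LinearMap.injective_iff_surjective_of_finrank_eq_finrank h1).2 hsurj
  let e := LinearEquiv.ofBijective πr ⟨hinj, hsurj⟩
  -- `θ` : the section `Z f v → Z f (v + w)`
  let θ : V →ₗ[F] V := (Z f (v + w)).subtype ∘ₗ e.symm.toLinearMap ∘ₗ Submodule.projectionOnto (Z f v) W' hc
  have hθ : ∀ x, θ x ∈ Z f (v + w) ∧ π (θ x) = π x := by
    intro x
    refine ⟨(e.symm _).2, ?_⟩
    have h1 : πr (e.symm (Submodule.projectionOnto (Z f v) W' hc x)) =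
        Submodule.projectionOnto (Z f v) W' hc x := e.apply_symm_apply _
    exact congrArg Subtype.val h1
  have huniq : ∀ x ∈ Z f (v + w), ∀ y ∈ Z f (v + w), π x = π y → x = y := by
    intro x hx y hy hxy
    have h1 : (⟨x, hx⟩ : Z f (v + w)) = ⟨y, hy⟩ := hinj (Subtype.ext hxy)
    exact congrArg Subtype.val h1
  have hθf : ∀ x, θ (f x) = f (θ x) := by
    intro x
    apply huniq _ (hθ _).1 _ (map_mem_Z (hθ x).1)
    rw [(hθ _).2]
    have h1 : π (f x) = f (π x) := congrArg (fun e : Module.End F V => e x) hπf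
    have h2 : π (f (θ x)) = f (π (θ x)) := congrArg (fun e : Module.End F V => e (θ x)) hπf
    rw [h1, h2, (hθ x).2]
  have hθπ : ∀ x, π x = 0 → θ x = 0 := by
    intro x hx
    apply huniq _ (hθ _).1 _ (Submodule.zero_mem _)
    rw [(hθ x).2, hx, map_zero]
  let N : Module.End F V := θ - π * θ
  have hNap : ∀ x, N x = θ x - π (θ x) := fun x => rfl
  have hNmem : ∀ x, N x ∈ W' := fun x => hcompl (θ x)
  have h0 := hN N (by
    ext x
    change N (N x) = 0
    rw [hNap (N x), hθπ (N x) (hπ2 _ (hNmem x)), map_zero, sub_zero]) (by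
    ext x
    change N (f x) = f (N x)
    rw [hNap, hNap, hθf, map_sub]
    congr 1
    exact congrArg (fun e : Module.End F V => e (θ x)) hπf)
  have h1 : N v = w := by
    have h2 : θ v = v + w := by
      apply huniq _ (hθ _).1 _ (mem_Z f _)
      rw [(hθ v).2, map_add, hπ2 w hw, add_zero]
    rw [hNap, h2, map_add, hπ1 v (mem_Z f v), hπ2 w hw, add_zero, add_sub_cancel_left]
  rw [h0] at h1
  exact hw0 h1.symm

end Cfsg.Agent.H864.CyclicVec
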