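import Mathlib
import Cfsg.Agent.H864.CyclicVec

/-!
# Matrices with scalar `r`-th power

* `pow_eq_of_fixed` : a field automorphism fixing the class of an element of order `r` modulo `n`-th powers fixes the
  `r`-th roots of unity;
* `exists_basis` : `f ^ r = l`, `f` with a cyclic vector, `r` divides the dimension: the `f ^ i v`, `i < r`, are a basis;
* `exists_twist` : then `D f = w f D` for some `D` of determinant one, `r` odd, `w ^ r = 1`.
-/

set_option autoImplicit false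

namespace Cfsg.Agent.H864.Twist

open Cfsg.Agent.H864.CyclicVec

section Units

variable {F : Type*} [Field F] [Finite F]

/-- `δ` is not an `n`-th power, `δ ^ r` is, and `σ δ = δ` modulo `n`-th powers: `σ` fixes the `r`-th roots of unity. -/
theorem pow_eq_of_fixed (σ : Fˣ →* Fˣ) {n r : ℕ} (hr : r.Prime) {δ μ ν w : Fˣ} (h1 : ∀ c : Fˣ, δ ≠ c ^ n)
    (h2 : δ ^ r = μ ^ n) (h3 : σ δ = ν ^ n * δ) (hw : w ^ r = 1) : σ w = w := by
  obtain ⟨m, hm⟩ := MonoidHom.map_cyclic σ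
  have h4 : δ ^ (m - 1) = ν ^ n := by
    rw [zpow_sub_one, ← hm, h3, mul_inv_cancel_right]
  have hdvd : (r : ℤ) ∣ m - 1 := by
    by_contra hnd
    have hcop : IsCoprime (r : ℤ) (m - 1) := (Nat.prime_iff_prime_int.1 hr).coprime_iff_not_dvd.2 hnd
    obtain ⟨a, b, hab⟩ := hcop
    apply h1 (μ ^ a * ν ^ b)
    have h5 : δ = (δ ^ (r : ℤ)) ^ a * (δ ^ (m - 1)) ^ b := by
      rw [← zpow_mul, ← zpow_mul, ← zpow_add, mul_comm (r : ℤ) a, mul_comm (m - 1) b, hab, zpow_one]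
    conv_lhs => rw [h5]
    rw [zpow_natCast, h2, h4, mul_pow, ← zpow_natCast μ n, ← zpow_natCast ν n, ← zpow_mul, ← zpow_mul,
      ← zpow_natCast (μ ^ a) n, ← zpow_natCast (ν ^ b) n, ← zpow_mul, ← zpow_mul, mul_comm (n : ℤ) a,
      mul_comm (n : ℤ) b]
  obtain ⟨k, hk⟩ := hdvd
  have h6 : w ^ (m - 1) = 1 := by
    rw [hk, zpow_mul, zpow_natCast, hw, one_zpow]
  rw [hm, show m = m - 1 + 1 by ring, zpow_add_one, h6, one_mul]

/-- `δ` not an `n`-th power, `δ ^ r` an `n`-th power, `r` prime: `r` divides `n`. -/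
theorem dvd_of_not_pow {n r : ℕ} (hr : r.Prime) {δ μ : Fˣ} (h1 : ∀ c : Fˣ, δ ≠ c ^ n)
    (h2 : δ ^ r = μ ^ n) : r ∣ n := by
  by_contra hnd
  have hcop : IsCoprime (r : ℤ) (n : ℤ) := by
    rw [Nat.isCoprime_iff_coprime]
    exact (Nat.Prime.coprime_iff_not_dvd hr).2 hnd
  obtain ⟨a, b, hab⟩ := hcop
  apply h1 (μ ^ a * δ ^ b)
  have h5 : δ = (δ ^ (r : ℤ)) ^ a * (δ ^ b) ^ (n : ℤ) := by
    rw [← zpow_mul, ← zpow_mul, ← zpow_add, mul_comm (r : ℤ) a, hab, zpow_one]
  conv_lhs => rw [h5]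
  rw [zpow_natCast, h2, mul_pow, zpow_natCast, ← zpow_natCast μ n, ← zpow_natCast (μ ^ a) n, ← zpow_mul, ← zpow_mul,
    mul_comm (n : ℤ) a]

/-- `δ` not an `n`-th power, `δ ^ r = l ^ n`, `r` a prime dividing `n`: there is an element of order `r`. -/
theorem exists_root {n r : ℕ} (hr : r.Prime) (hrn : r ∣ n) {δ l : Fˣ} (h1 : ∀ c : Fˣ, δ ≠ c ^ n)
    (h2 : δ ^ r = l ^ n) : ∃ w : Fˣ, orderOf w = r := by
  have : Fact r.Prime := ⟨hr⟩
  by_contra hno
  have hnd : ¬ r ∣ Nat.card Fˣ := by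
    intro hd
    exact hno (exists_prime_orderOf_dvd_card' r hd)
  have hcop : (Nat.card Fˣ).Coprime r := ((Nat.Prime.coprime_iff_not_dvd hr).2 hnd).symm
  have hbij : Function.Bijective fun x : Fˣ => x ^ r := (powCoprime hcop).bijective
  obtain ⟨m, rfl⟩ := hrn
  obtain ⟨μ, hμ⟩ := hbij.2 l
  apply h1 μ
  apply hbij.1
  change δ ^ r = (μ ^ (r * m)) ^ r
  have hμ' : μ ^ r = l := hμ
  rw [h2, ← hμ', ← pow_mul, ← pow_mul, mul_comm r]

end Units

section Lin

variable {F V : Type*} [Field F] [AddCommGroup V] [Module F V] [FiniteDimensional F V]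

theorem span_eq_top {f : Module.End F V} {v : V} (hv : Z f v = ⊤) {r : ℕ} {l : F} (hf : ∀ x, (f ^ r) x = l • x) (hr : 0 < r) :
    Submodule.span F (Set.range fun i : Fin r => (f ^ (i : ℕ)) v) = ⊤ := by
  rw [eq_top_iff, ← hv]
  refine Z_le (Submodule.subset_span ⟨⟨0, hr⟩, rfl⟩) ?_
  intro w hw
  induction hw using Submodule.span_induction with
  | mem x hx =>
    obtain ⟨i, rfl⟩ := hx
    have h1 : f ((f ^ (i : ℕ)) v) = (f ^ ((i : ℕ) + 1)) v := by rw [pow_succ']; rfl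
    change f ((f ^ (i : ℕ)) v) ∈ _
    rw [h1]
    rcases Nat.lt_or_ge ((i : ℕ) + 1) r with h2 | h2
    · exact Submodule.subset_span ⟨⟨(i : ℕ) + 1, h2⟩, rfl⟩
    · have h3 : (i : ℕ) + 1 = r := le_antisymm i.2 h2
      rw [h3, hf]
      exact Submodule.smul_mem _ _ (Submodule.subset_span ⟨⟨0, hr⟩, rfl⟩)
  | zero => rw [map_zero]; exact Submodule.zero_mem _
  | add x y _ _ hx hy => rw [map_add]; exact Submodule.add_mem _ hx hy
  | smul a x _ hx => rw [map_smul]; exact Submodule.smul_mem _ _ hx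

theorem finrank_le {f : Module.End F V} {v : V} (hv : Z f v = ⊤) {r : ℕ} {l : F} (hf : ∀ x, (f ^ r) x = l • x) (hr : 0 < r) :
    Module.finrank F V ≤ r := by
  have h1 := finrank_range_le_card (R := F) (fun i : Fin r => (f ^ (i : ℕ)) v)
  rw [Set.finrank, span_eq_top hv hf hr, finrank_top, Fintype.card_fin] at h1
  exact h1

theorem exists_basis {f : Module.End F V} {v : V} (hv : Z f v = ⊤) {r : ℕ} {l : F} (hf : ∀ x, (f ^ r) x = l • x) (hr : 0 < r)
    (hdim : Module.finrank F V = r) : ∃ b : Module.Basis (Fin r) F V, ∀ i, b i = (f ^ (i : ℕ)) v := by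
  refine ⟨basisOfTopLeSpanOfCardEqFinrank (fun i : Fin r => (f ^ (i : ℕ)) v) (span_eq_top hv hf hr).ge ?_, ?_⟩
  · rw [Fintype.card_fin, hdim]
  · intro i
    rw [coe_basisOfTopLeSpanOfCardEqFinrank]

theorem exists_twist {f : Module.End F V} {v : V} (hv : Z f v = ⊤) {r : ℕ} {l : F} (hf : ∀ x, (f ^ r) x = l • x)
    (hr : Odd r) (hdim : Module.finrank F V = r) {w : F} (hw : w ^ r = 1) :
    ∃ D : Module.End F V, LinearMap.det D = 1 ∧ D * f = w • (f * D) := by
  obtain ⟨b, hb⟩ := exists_basis hv hf hr.pos hdim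
  let D : Module.End F V := b.constr F (fun i => w ^ (i : ℕ) • b i)
  have hD : ∀ i, D (b i) = w ^ (i : ℕ) • b i := fun i => b.constr_basis F _ i
  have hD' : ∀ i : ℕ, i ≤ r → D ((f ^ i) v) = w ^ i • (f ^ i) v := by
    intro i hi
    rcases hi.lt_or_eq with h1 | h1
    · have := hD ⟨i, h1⟩
      rwa [hb] at this
    · subst h1
      have h2 := hD ⟨0, hr.pos⟩
      rw [hb] at h2
      rw [hf, map_smul, hw, one_smul]
      congr 1
      simpa using h2
  refine ⟨D, ?_, ?_⟩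
  · have h1 : LinearMap.toMatrix b b D = Matrix.diagonal fun i : Fin r => w ^ (i : ℕ) := by
      ext i j
      rw [LinearMap.toMatrix_apply, hD, map_smul, b.repr_self, Finsupp.smul_apply, Matrix.diagonal_apply,
        Finsupp.single_apply]
      by_cases hij : i = j
      · subst hij; simp
      · rw [if_neg (Ne.symm hij), if_neg hij, smul_zero]
    rw [← LinearMap.det_toMatrix b, h1, Matrix.det_diagonal, Finset.prod_pow_eq_pow_sum]
    obtain ⟨k, hk⟩ := hr
    have h2 : ∑ i : Fin r, (i : ℕ) = r * k := by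
      rw [Fin.sum_univ_eq_sum_range (fun i => i) r, Finset.sum_range_id, hk]
      have h3 : (2 * k + 1) * (2 * k + 1 - 1) = (2 * k + 1) * k * 2 := by
        rw [Nat.add_sub_cancel]; ring
      rw [h3, Nat.mul_div_cancel _ two_pos]
    rw [h2, pow_mul, hw, one_pow]
  · apply b.ext
    intro i
    change D (f (b i)) = w • f (D (b i))
    rw [hD, map_smul, hb]
    have h1 : f ((f ^ (i : ℕ)) v) = (f ^ ((i : ℕ) + 1)) v := by rw [pow_succ']; rfl
    rw [h1, hD' _ i.2, smul_smul, pow_succ']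

end Lin

end Cfsg.Agent.H864.Twist
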