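import Mathlib
import Cfsg.Agent.CpAut.Psl
import Cfsg.Agent.LieRecognition.FieldSemilinear
import Cfsg.Agent.Lib.NormalAbelian
import Cfsg.Agent.H523.FpfAct
import Cfsg.Agent.H864.Twist

/-!
# Nilpotent groups of automorphisms of `PSL_n(F)` without fixed points

`psl` : `A` a nilpotent group of automorphisms of odd order of `PSL_n(F)`, `n ≥ 2`, not cyclic, without inner automorphisms,
fixing only the identity, all proper `A`-invariant subgroups solvable: some non-identity central element of `A` fixes an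
element of order `p`, the characteristic.
-/

set_option autoImplicit false
set_option linter.unusedSectionVars false

namespace Cfsg.Agent.H864.FpfPSL

open Matrix Cfsg
open Cfsg.Agent.ClassicalGeometry.AutPSL.Root
open Cfsg.Agent.ClassicalGeometry.AutPSL.Auto
open Cfsg.Agent.ClassicalGeometry.AutPSL.Main
open Cfsg.Agent.CpAut.Psl
open Cfsg.Agent.H864.CyclicVec Cfsg.Agent.H864.Twist

section Abs

/-- A nilpotent group of automorphisms which is not cyclic has a central element of prime order in the kernel of a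
homomorphism to a cyclic group. -/
theorem exists_central {A C : Type*} [Group A] [Finite A] [Group C] [IsCyclic C] (hnil : Group.IsNilpotent A)
    (hcyc : ¬ IsCyclic A) (s : A →* C) : ∃ (t : A) (r : ℕ), r.Prime ∧ orderOf t = r ∧ s t = 1 ∧ ∀ b : A, t * b = b * t := by
  have hne : s.ker ≠ ⊥ := by
    intro h
    exact hcyc (isCyclic_of_injective s ((MonoidHom.ker_eq_bot_iff s).1 h))
  have h1 := Cfsg.Agent.Lib.NormalAbelian.normal_inf_center_ne_bot s.ker hne
  obtain ⟨t, ht1⟩ := (Subgroup.ne_bot_iff_exists_ne_one).1 h1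
  obtain ⟨h2, h3⟩ := t.2
  have ht : (t : A) ≠ 1 := fun h => ht1 (Subtype.ext h)
  have hord : orderOf (t : A) ≠ 1 := fun h => ht (orderOf_eq_one_iff.1 h)
  obtain ⟨r, hr, hrd⟩ := Nat.exists_prime_and_dvd hord
  refine ⟨(t : A) ^ (orderOf (t : A) / r), r, hr, orderOf_pow_orderOf_div (orderOf_pos _).ne' hrd, ?_, ?_⟩
  · rw [map_pow]
    rw [MonoidHom.mem_ker.1 h2, one_pow]
  · intro b
    exact ((show Commute (t : A) b from (Subgroup.mem_center_iff.1 h3 b).symm).pow_left _)

/-- A homomorphism with kernel of order two from a noncyclic group to a cyclic one: there is a central involution outside of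
the kernel. -/
theorem exists_involution {A C : Type*} [Group A] [Finite A] [Group C] [IsCyclic C] (hcyc : ¬ IsCyclic A) (s : A →* C)
    (t : A) (ht : s t = 1) (ht1 : t ≠ 1) (hker : ∀ x : A, s x = 1 → x = 1 ∨ x = t) :
    ∃ a : A, a ^ 2 = 1 ∧ s a ≠ 1 ∧ ∀ b : A, a * b = b * a := by
  have htt : t ^ 2 = 1 := by
    rcases hker (t ^ 2) (by rw [map_pow, ht, one_pow]) with h | h
    · exact h
    · rw [pow_two, mul_eq_left] at h
      exact absurd h ht1
  have htc : ∀ b : A, b * t = t * b := by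
    intro b
    rcases hker (b * t * b⁻¹) (by rw [map_mul, map_mul, ht, mul_one, map_inv, mul_inv_cancel]) with h | h
    · rw [mul_inv_eq_one, mul_eq_left] at h
      exact absurd h ht1
    · exact mul_inv_eq_iff_eq_mul.1 h
  obtain ⟨⟨_, x, rfl⟩, hx⟩ := IsCyclic.exists_generator (α := s.range)
  have hgen : ∀ x' : A, s x' = s x → ∀ y : A, ∃ k : ℤ, y = x' ^ k ∨ y = x' ^ k * t := by
    intro x' hx' y
    obtain ⟨k, hk⟩ := Subgroup.mem_zpowers_iff.1 (hx ⟨s y, y, rfl⟩)
    have h1 : s x ^ k = s y := congrArg Subtype.val hk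
    refine ⟨k, ?_⟩
    rcases hker ((x' ^ k)⁻¹ * y) (by rw [map_mul, map_inv, map_zpow, hx', h1, inv_mul_cancel]) with h | h
    · left; exact (inv_mul_eq_one.1 h).symm
    · right; exact inv_mul_eq_iff_eq_mul.1 h
  have hnt : ∀ x' : A, s x' = s x → x' ^ orderOf (s x) ≠ t := by
    intro x' hx' h
    apply hcyc
    refine ⟨x', fun y => ?_⟩
    obtain ⟨k, hk | hk⟩ := hgen x' hx' y
    · exact Subgroup.mem_zpowers_iff.2 ⟨k, hk.symm⟩
    · refine Subgroup.mem_zpowers_iff.2 ⟨k + orderOf (s x), ?_⟩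
      rw [hk, _root_.zpow_add, _root_.zpow_natCast, h]
  have hone : ∀ x' : A, s x' = s x → x' ^ orderOf (s x) = 1 := by
    intro x' hx'
    rcases hker (x' ^ orderOf (s x)) (by rw [map_pow, hx', pow_orderOf_eq_one]) with h | h
    · exact h
    · exact absurd h (hnt x' hx')
  obtain ⟨k, hk⟩ : Even (orderOf (s x)) := by
    by_contra hodd
    rw [Nat.not_even_iff_odd] at hodd
    obtain ⟨k, hk⟩ := hodd
    have h1 := hone (x * t) (by rw [map_mul, ht, mul_one])
    rw [(show Commute x t from htc x).mul_pow, hone x rfl, one_mul, hk, pow_succ, pow_mul, htt, one_pow, one_mul] at h1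
    exact ht1 h1
  have hpos : 0 < orderOf (s x) := by
    have : Finite s.range := Finite.of_surjective _ s.rangeRestrict_surjective
    have h1 : orderOf (⟨s x, x, rfl⟩ : s.range) = orderOf (s x) := Subgroup.orderOf_mk _ _
    rw [← h1]
    exact orderOf_pos _
  refine ⟨x ^ k, ?_, ?_, ?_⟩
  · rw [← pow_mul, mul_two, ← hk, hone x rfl]
  · rw [map_pow]
    exact pow_ne_one_of_lt_orderOf (by omega) (by omega)
  · intro b
    have hxb : Commute x b := by
      obtain ⟨m, hm | hm⟩ := hgen x rfl b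
      · rw [hm]; exact (Commute.refl x).zpow_right m
      · rw [hm]; exact ((Commute.refl x).zpow_right m).mul_right (htc x)
    exact hxb.pow_left k

variable {G : Type*} [Group G]

/-- `y g = z g y` -/
def Tw (g z y : G) : Prop := y * g = z * (g * y)

theorem Tw.inv_mul {g z d e : G} (hd : Tw g z d) (he : Tw g z e) : Tw g 1 (d⁻¹ * e) := by
  unfold Tw at *
  have h1 : d⁻¹ * (z * g) = g * d⁻¹ := by
    rw [inv_mul_eq_iff_eq_mul, ← mul_assoc, eq_mul_inv_iff_mul_eq, mul_assoc z, hd]
  rw [one_mul, mul_assoc, he, ← mul_assoc z, ← mul_assoc d⁻¹, h1, mul_assoc]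

theorem Tw.conj {g z y x : G} (hz : ∀ x : G, z * x = x * z) (hy : Tw g z y) (hx : Tw g 1 x) : Tw g 1 (y * x * y⁻¹) := by
  unfold Tw at *
  rw [one_mul] at *
  have h1 : y⁻¹ * g = z⁻¹ * (g * y⁻¹) := by
    rw [eq_inv_mul_iff_mul_eq, ← mul_assoc, hz, mul_assoc, inv_mul_eq_iff_eq_mul, ← mul_assoc, eq_mul_inv_iff_mul_eq,
      mul_assoc, ← hy]
  have hz' : ∀ x : G, z⁻¹ * x = x * z⁻¹ := by
    intro x
    rw [inv_mul_eq_iff_eq_mul, ← mul_assoc, eq_mul_inv_iff_mul_eq, hz]
  calc y * x * y⁻¹ * g = y * x * (y⁻¹ * g) := by rw [mul_assoc]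
    _ = y * (x * (z⁻¹ * (g * y⁻¹))) := by rw [h1, mul_assoc]
    _ = z⁻¹ * (y * (x * g) * y⁻¹) := by
      rw [← mul_assoc x, ← hz', mul_assoc z⁻¹, ← mul_assoc y, ← hz', mul_assoc z⁻¹, ← mul_assoc x g, mul_assoc y]
    _ = z⁻¹ * ((y * g) * x * y⁻¹) := by rw [hx]; simp only [mul_assoc]
    _ = g * (y * x * y⁻¹) := by
      rw [hy]
      simp only [mul_assoc, inv_mul_cancel_left]

/-- Transport by `h φ(·) h⁻¹`, `h φ(g) = c g h`. -/
theorem Tw.map {g z y h c : G} (φ : G →* G) (hc : ∀ x : G, c * x = x * c) (hφz : ∀ x : G, φ z * x = x * φ z)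
    (hg : h * φ g = c * (g * h)) (hy : Tw g z y) : Tw g (φ z) (h * φ y * h⁻¹) := by
  unfold Tw at *
  have h1 := congrArg φ hy
  rw [map_mul, map_mul, map_mul] at h1
  have h2 : φ g = c * (h⁻¹ * (g * h)) := by
    rw [← mul_assoc, hc, mul_assoc, eq_inv_mul_iff_mul_eq, hg]
  rw [h2] at h1
  have h3 : φ y * (h⁻¹ * (g * h)) = φ z * (h⁻¹ * (g * h) * φ y) := by
    apply mul_left_cancel (a := c)
    calc c * (φ y * (h⁻¹ * (g * h))) = φ y * (c * (h⁻¹ * (g * h))) := by rw [← mul_assoc, hc, mul_assoc]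
      _ = φ z * (c * (h⁻¹ * (g * h)) * φ y) := h1
      _ = c * (φ z * (h⁻¹ * (g * h) * φ y)) := by
        rw [mul_assoc c, ← mul_assoc (φ z), ← hc, mul_assoc c]
  calc h * φ y * h⁻¹ * g = h * (φ y * (h⁻¹ * (g * h))) * h⁻¹ := by group
    _ = h * (φ z * (h⁻¹ * (g * h) * φ y)) * h⁻¹ := by rw [h3]
    _ = φ z * (h * (h⁻¹ * (g * h) * φ y) * h⁻¹) := by rw [← mul_assoc h, ← hφz, mul_assoc (φ z), mul_assoc (φ z)]
    _ = φ z * (g * (h * φ y * h⁻¹)) := by group

end Abs

section Lin

variable {ι F : Type*} [Fintype ι] [DecidableEq ι] [Field F]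

theorem scg_comm (c : Fˣ) (x : GL ι F) : scg c * x = x * scg c := by
  apply Units.ext
  exact (scalar_commute (n := ι) (c : F) (Commute.all _) (x : Matrix ι ι F))

theorem scg_mul (c d : Fˣ) : scg (ι := ι) (c * d) = scg c * scg d := by
  apply Units.ext
  change scalar ι ((c * d : Fˣ) : F) = scalar ι (c : F) * scalar ι (d : F)
  rw [← map_mul, Units.val_mul]

theorem scg_one : scg (ι := ι) (1 : Fˣ) = 1 := by
  apply Units.ext
  change scalar ι ((1 : Fˣ) : F) = 1
  rw [Units.val_one, map_one]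

theorem fgl_scg (σ : F ≃+* F) (c : Fˣ) : fgl σ (scg (ι := ι) c) = scg (Units.map (σ : F →* F) c) := by
  apply Units.ext
  rw [coe_fgl]
  change (scalar ι (c : F)).map σ = scalar ι (σ (c : F))
  ext i j
  rw [Matrix.map_apply, scalar_apply, scalar_apply, diagonal_apply, diagonal_apply]
  split_ifs
  · rfl
  · exact map_zero σ

theorem det_scg (c : Fˣ) : Matrix.GeneralLinearGroup.det (scg (ι := ι) c) = c ^ Fintype.card ι := by
  apply Units.ext
  change (scalar ι (c : F)).det = ((c ^ Fintype.card ι : Fˣ) : F)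
  rw [scalar_apply, det_diagonal, Finset.prod_const, Finset.card_univ, Units.val_pow_eq_pow_val]

theorem det_fgl (σ : F ≃+* F) (g : GL ι F) :
    Matrix.GeneralLinearGroup.det (fgl σ g) = Units.map (σ : F →* F) (Matrix.GeneralLinearGroup.det g) := by
  apply Units.ext
  change ((g : Matrix ι ι F).map σ).det = σ (g : Matrix ι ι F).det
  exact ((σ : F →+* F).map_det (g : Matrix ι ι F)).symm

/-- Uniqueness of the representation of an automorphism. -/
theorem uniq [Nontrivial ι] {g h : GL ι F} {σ τ : F ≃+* F} (e : lift (cj g * fld σ) = lift (cj h * fld τ)) :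
    (∃ c : Fˣ, g = scg c * h) ∧ σ = τ := by
  have h1 : lift (cj (h⁻¹ * g) * fld σ) = lift (fld τ) := by
    rw [map_mul cj, map_inv, mul_assoc, map_mul, e, ← map_mul, ← mul_assoc, inv_mul_cancel, one_mul]
  obtain ⟨⟨c, hc⟩, h2⟩ := injective_aux h1
  have hne : Nonempty ι := inferInstance
  refine ⟨⟨Units.mk0 c (scalar_ne_zero hc), ?_⟩, h2⟩
  have h3 : h⁻¹ * g = scg (Units.mk0 c (scalar_ne_zero hc)) := Units.ext hc.symm
  rw [scg_comm, ← h3, mul_inv_cancel_left]

/-- An automorphism `cj g`, the determinant of `g` an `n`-th power, is inner. -/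
theorem inner_of_det {g : GL ι F} {c : Fˣ} (h : Matrix.GeneralLinearGroup.det g = c ^ Fintype.card ι) :
    lift (cj g) ∈ (MulAut.conj : Matrix.ProjectiveSpecialLinearGroup ι F →* _).range := by
  obtain ⟨B, hB⟩ : ∃ B : GL ι F, B = (scg c)⁻¹ * g := ⟨_, rfl⟩
  have hdet : (B : Matrix ι ι F).det = 1 := by
    have h1 : Matrix.GeneralLinearGroup.det B = 1 := by
      rw [hB, map_mul, map_inv, det_scg, h, inv_mul_cancel]
    exact congrArg Units.val h1
  obtain ⟨b, hb⟩ : ∃ b : Matrix.SpecialLinearGroup ι F, (b : Matrix ι ι F) = B :=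
    ⟨⟨(B : Matrix ι ι F), hdet⟩, rfl⟩
  refine ⟨pr b, ?_⟩
  have h3 : (cj g : MulAut (Matrix.SpecialLinearGroup ι F)) = cj B := by
    rw [hB, map_mul, map_inv, cj_scg, inv_one, one_mul]
  apply MulEquiv.ext
  intro x
  obtain ⟨x, rfl⟩ := pr_surjective x
  have h6 : cj B x = b * x * b⁻¹ := by
    apply Subtype.ext
    rw [coe_cj, Matrix.SpecialLinearGroup.coe_mul, Matrix.SpecialLinearGroup.coe_mul, hb]
    congr 1
    have h4 : ((B⁻¹ : GL ι F) : Matrix ι ι F) * (B : Matrix ι ι F) = 1 := by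
      rw [← Units.val_mul, inv_mul_cancel, Units.val_one]
    have h5 : (B : Matrix ι ι F) * ((b⁻¹ : Matrix.SpecialLinearGroup ι F) : Matrix ι ι F) = 1 := by
      rw [← hb, ← Matrix.SpecialLinearGroup.coe_mul, mul_inv_cancel, Matrix.SpecialLinearGroup.coe_one]
    exact left_inv_eq_right_inv h4 h5
  rw [h3, lift_pr, h6, map_mul, map_mul, map_inv]
  rfl

/-- `SL → GL` -/
def tg : Matrix.SpecialLinearGroup ι F →* GL ι F := Matrix.SpecialLinearGroup.toGL

theorem coe_tg (x : Matrix.SpecialLinearGroup ι F) : (tg x : Matrix ι ι F) = x := rfl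

theorem tg_cj (g : GL ι F) (x : Matrix.SpecialLinearGroup ι F) : tg (cj g x) = g * tg x * g⁻¹ := by
  apply Units.ext
  rw [coe_tg, coe_cj]
  rfl

theorem tg_fld (σ : F ≃+* F) (x : Matrix.SpecialLinearGroup ι F) : tg (fld σ x) = fgl σ (tg x) := by
  apply Units.ext
  rfl

theorem tg_injective : Function.Injective (tg : Matrix.SpecialLinearGroup ι F →* GL ι F) := by
  intro x y h
  exact Subtype.ext (congrArg Units.val h)

theorem pr_eq_iff [Nonempty ι] {x y : Matrix.SpecialLinearGroup ι F} : pr x = pr y ↔ ∃ c : Fˣ, tg y = scg c * tg x := by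
  constructor
  · intro h
    obtain ⟨c, hc⟩ := exists_smul_of_pr_eq h
    have hc0 : c ≠ 0 := by
      rintro rfl
      rw [zero_smul] at hc
      have h1 := y.2
      change (y : Matrix ι ι F).det = 1 at h1
      rw [hc, det_zero] at h1
      exact zero_ne_one h1
    refine ⟨Units.mk0 c hc0, Units.ext ?_⟩
    change (y : Matrix ι ι F) = scalar ι c * (x : Matrix ι ι F)
    rw [hc, scalar_apply, ← smul_one_eq_diagonal, smul_mul_assoc, one_mul]
  · rintro ⟨c, hc⟩
    apply pr_eq_of_smul (c := (c : F))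
    have h1 := congrArg Units.val hc
    change (y : Matrix ι ι F) = scalar ι (c : F) * (x : Matrix ι ι F) at h1
    rw [h1, scalar_apply, ← smul_one_eq_diagonal, smul_mul_assoc, one_mul]

theorem tw_act [Finite F] [Nontrivial ι] {g h : GL ι F} {σ : F ≃+* F} {r : ℕ} {l w : Fˣ}
    (e : lift (cj g) * lift (cj h * fld σ) = lift (cj h * fld σ) * lift (cj g)) (hr : r.Prime)
    (h1 : ∀ c : Fˣ, Matrix.GeneralLinearGroup.det g ≠ c ^ Fintype.card ι)
    (h2 : Matrix.GeneralLinearGroup.det g ^ r = l ^ Fintype.card ι) (hw : w ^ r = 1) :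
    Units.map (σ : F →* F) w = w ∧
      ∀ (κ : Fˣ) (x : Matrix.SpecialLinearGroup ι F), Tw g (scg κ) (tg x) →
        Tw g (scg (Units.map (σ : F →* F) κ)) (tg ((cj h * fld σ : MulAut (Matrix.SpecialLinearGroup ι F)) x)) := by
  have h3 : lift (cj (h * fgl σ g) * fld σ) = lift (cj (g * h) * fld σ) := by
    have h4 : (cj g : MulAut (Matrix.SpecialLinearGroup ι F)) = cj g * fld 1 := by rw [map_one, mul_one]
    rw [← map_mul, ← map_mul, h4, cjfld_mul, cjfld_mul, fgl_one, one_mul, mul_one] at e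
    exact e.symm
  obtain ⟨⟨c, hc⟩, -⟩ := uniq h3
  refine ⟨?_, ?_⟩
  · have h5 := congrArg Matrix.GeneralLinearGroup.det hc
    rw [map_mul, map_mul, map_mul, det_scg, det_fgl, mul_comm _ (Matrix.GeneralLinearGroup.det h),
      mul_left_comm] at h5
    exact pow_eq_of_fixed (Units.map (σ : F →* F)) hr h1 h2 (mul_left_cancel h5) hw
  · intro κ x hx
    have h6 := Tw.map (fgl σ) (scg_comm c) (by rw [fgl_scg]; exact scg_comm _) hc hx
    rw [fgl_scg] at h6
    have h7 : tg ((cj h * fld σ : MulAut (Matrix.SpecialLinearGroup ι F)) x) = h * fgl σ (tg x) * h⁻¹ := by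
      rw [MulAut.mul_apply, tg_cj, tg_fld]
    rw [h7]
    exact h6

end Lin

section Main

variable {F : Type*} [Field F] [Fintype F] {n : ℕ}

/-- An automorphism of prime order which is not linear fixes an element of order `p`. -/
theorem field_fix (p : ℕ) [Fact p.Prime] [CharP F p] (hn : 2 ≤ n) {ℓ : ℕ} (hℓ : ℓ.Prime) {g : GL (Fin n) F} {σ : F ≃+* F}
    (h : (lift (cj g * fld σ)) ^ ℓ = 1) (hσ : σ ≠ 1) :
    ∃ u : Matrix.ProjectiveSpecialLinearGroup (Fin n) F, u ≠ 1 ∧ u ^ p = 1 ∧ lift (cj g * fld σ) u = u := by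
  have hnt : Nontrivial (Fin n) := Fin.nontrivial_iff_two_le.2 hn
  obtain ⟨-, B, hB⟩ := exists_conj hℓ h hσ
  obtain ⟨i, j, hij⟩ := exists_pair_ne (Fin n)
  have h0 : fld σ (Matrix.SpecialLinearGroup.transvection hij (1 : F)) = Matrix.SpecialLinearGroup.transvection hij (1 : F) := by
    rw [fld_transvection, map_one]
  have h2 : pr (Matrix.SpecialLinearGroup.transvection hij (1 : F)) ≠ 1 := by
    intro h
    have h3 : pr (Matrix.SpecialLinearGroup.transvection hij (1 : F)) = pr (Matrix.SpecialLinearGroup.transvection hij (0 : F)) := by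
      rw [h]
      have : Matrix.SpecialLinearGroup.transvection hij (0 : F) = 1 := by
        apply Subtype.ext
        change (1 : Matrix (Fin n) (Fin n) F) + single i j 0 = 1
        rw [single_zero, add_zero]
      rw [this, map_one]
    exact one_ne_zero (Cfsg.Agent.ClassicalGeometry.AutPSL.Images.pr_transvection_injective hij h3)
  refine ⟨lift (cj B) (pr (Matrix.SpecialLinearGroup.transvection hij (1 : F))), ?_, ?_, ?_⟩
  · intro h
    apply h2
    exact (lift (cj B)).injective (by rw [h, map_one])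
  · rw [← map_pow, ← map_pow]
    have h3 : (Matrix.SpecialLinearGroup.transvection hij (1 : F)) ^ p = 1 := by
      apply Subtype.ext
      rw [Matrix.SpecialLinearGroup.coe_pow]
      change (1 + single i j (1 : F)) ^ p = 1
      rw [add_pow_char_of_commute _ (Commute.one_left _), one_pow]
      obtain ⟨k, hk⟩ : ∃ k, p = k + 2 := ⟨p - 2, by have := (Fact.out : p.Prime).two_le; omega⟩
      rw [hk, pow_add, pow_two, Matrix.single_mul_single_of_ne _ _ _ _ hij.symm, mul_zero, add_zero]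
    rw [h3, map_one, map_one]
  · rw [hB, map_mul, map_mul, MulAut.mul_apply, MulAut.mul_apply, map_inv, MulAut.inv_apply_self]
    congr 1
    rw [lift_pr, h0]

/-- **`PSL_2(F)`** -/
theorem psl_two (p : ℕ) [Fact p.Prime] [CharP F p] (A : Subgroup (MulAut (Matrix.ProjectiveSpecialLinearGroup (Fin 2) F)))
    (hInn : A ⊓ (MulAut.conj : Matrix.ProjectiveSpecialLinearGroup (Fin 2) F →* _).range = ⊥) (hcyc : ¬ IsCyclic A) :
    ∃ a ∈ A, a ≠ 1 ∧ (∀ b ∈ A, a * b = b * a) ∧ ∃ u, u ≠ 1 ∧ u ^ p = 1 ∧ a u = u := by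
  classical
  have hnt : Nontrivial (Fin 2) := inferInstance
  have hfin : Finite A := inferInstance
  have hrep : ∀ a : A, ∃ x : GL (Fin 2) F × (F ≃+* F), (a : MulAut _) = lift (cj x.1 * fld x.2) := by
    intro a
    obtain ⟨g, σ, h2⟩ := surj_two p (a : MulAut (Matrix.ProjectiveSpecialLinearGroup (Fin 2) F))
    exact ⟨(g, σ), h2⟩
  choose P hP using hrep
  let s : A →* (F ≃+* F) :=
    { toFun := fun a => (P a).2
      map_one' := by
        have h1 : lift (cj (P 1).1 * fld (P 1).2) = lift (cj (1 : GL (Fin 2) F) * fld (1 : F ≃+* F)) := by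
          rw [← hP, map_one, map_one, one_mul, map_one]
          rfl
        exact (uniq h1).2
      map_mul' := by
        intro a b
        have h1 : lift (cj (P (a * b)).1 * fld (P (a * b)).2) =
            lift (cj ((P a).1 * fgl (P a).2 (P b).1) * fld ((P a).2 * (P b).2)) := by
          rw [← cjfld_mul, map_mul lift (cj (P a).1 * fld (P a).2), ← hP, ← hP, ← hP]
          rfl
        exact (uniq h1).2 }
  have hcycF : IsCyclic (F ≃+* F) := LieRecognition.FieldSemilinear.isCyclic_ringAut F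
  have hker : s.ker ≠ ⊥ := by
    intro h
    exact hcyc (isCyclic_of_injective s ((MonoidHom.ker_eq_bot_iff s).1 h))
  obtain ⟨⟨t, ht⟩, ht1⟩ := (Subgroup.ne_bot_iff_exists_ne_one).1 hker
  have ht1' : t ≠ 1 := fun h => ht1 (Subtype.ext h)
  -- an element of the kernel is determined by its determinant modulo squares
  have hlin : ∀ x : A, s x = 1 → (x : MulAut (Matrix.ProjectiveSpecialLinearGroup (Fin 2) F)) = lift (cj (P x).1) := by
    intro x hx
    have h1 : (P x).2 = 1 := hx
    rw [hP x, h1, map_one, mul_one]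
  have hsq : ∀ x y : A, s x = 1 → s y = 1 → ∀ c : Fˣ, Matrix.GeneralLinearGroup.det ((P x).1 * (P y).1) = c ^ 2 →
      x * y = 1 := by
    intro x y hx hy c hc
    have h1 : ((x * y : A) : MulAut (Matrix.ProjectiveSpecialLinearGroup (Fin 2) F)) ∈
        A ⊓ (MulAut.conj : Matrix.ProjectiveSpecialLinearGroup (Fin 2) F →* _).range := by
      refine ⟨(x * y).2, ?_⟩
      rw [Subgroup.coe_mul, hlin x hx, hlin y hy, ← map_mul, ← map_mul]
      exact inner_of_det (c := c) (by rw [hc, Fintype.card_fin])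
    rw [hInn, Subgroup.mem_bot] at h1
    exact Subtype.ext h1
  have hdet : ∀ x y : A, s x = 1 → s y = 1 → x ≠ 1 → y ≠ 1 → x * y = 1 := by
    intro x y hx hy hx1 hy1
    have h1 : ∀ z : A, s z = 1 → z ≠ 1 → ¬ IsSquare (Matrix.GeneralLinearGroup.det (P z).1 : F) := by
      intro z hz hz1 hsq
      apply hz1
      obtain ⟨c, hc⟩ := hsq
      have hc0 : c ≠ 0 := by
        rintro rfl
        rw [mul_zero] at hc
        exact (Matrix.GeneralLinearGroup.det (P z).1).ne_zero hc
      have h2 : ((z : A) : MulAut (Matrix.ProjectiveSpecialLinearGroup (Fin 2) F)) ∈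
          A ⊓ (MulAut.conj : Matrix.ProjectiveSpecialLinearGroup (Fin 2) F →* _).range := by
        refine ⟨z.2, ?_⟩
        rw [hlin z hz]
        refine inner_of_det (c := Units.mk0 c hc0) ?_
        rw [Fintype.card_fin]
        apply Units.ext
        rw [Units.val_pow_eq_pow_val, Units.val_mk0, pow_two]
        exact hc
      rw [hInn, Subgroup.mem_bot] at h2
      exact Subtype.ext h2
    have h3 : IsSquare ((Matrix.GeneralLinearGroup.det (P x).1 : F) * (Matrix.GeneralLinearGroup.det (P y).1 : F)) := by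
      by_cases hF : ringChar F = 2
      · exact FiniteField.isSquare_of_char_two hF _
      · have h4 : ∀ z : A, s z = 1 → z ≠ 1 → (Matrix.GeneralLinearGroup.det (P z).1 : F) ^ (Fintype.card F / 2) = -1 := by
          intro z hz hz1
          rcases FiniteField.pow_dichotomy hF (Units.ne_zero (Matrix.GeneralLinearGroup.det (P z).1)) with h | h
          · exact absurd ((FiniteField.isSquare_iff hF (Units.ne_zero _)).2 h) (h1 z hz hz1)
          · exact h
        rw [FiniteField.isSquare_iff hF (mul_ne_zero (Units.ne_zero _) (Units.ne_zero _)), mul_pow, h4 x hx hx1,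
          h4 y hy hy1, neg_one_mul, neg_neg]
    obtain ⟨c, hc⟩ := h3
    have hc0 : c ≠ 0 := by
      rintro rfl
      rw [mul_zero, mul_eq_zero] at hc
      rcases hc with h | h
      · exact Units.ne_zero _ h
      · exact Units.ne_zero _ h
    refine hsq x y hx hy (Units.mk0 c hc0) ?_
    apply Units.ext
    rw [map_mul, Units.val_mul, Units.val_pow_eq_pow_val, Units.val_mk0, pow_two, hc]
  obtain ⟨a, ha2, has, hac⟩ := exists_involution hcyc s t ht ht1' (by
    intro x hx
    by_cases hx1 : x = 1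
    · exact Or.inl hx1
    · right
      have h1 := hdet x t hx ht hx1 ht1'
      have h2 := hdet t t ht ht ht1' ht1'
      rw [← h2, mul_left_inj] at h1
      exact h1)
  refine ⟨a, a.2, ?_, fun b hb => congrArg Subtype.val (hac ⟨b, hb⟩), ?_⟩
  · intro h
    apply has
    have h1 : a = 1 := Subtype.ext h
    rw [h1, map_one]
  · rw [hP a]
    refine field_fix p le_rfl Nat.prime_two ?_ has
    rw [← hP a, ← Subgroup.coe_pow, ha2, Subgroup.coe_one]

/-- **`PSL_n(F)`** -/
theorem psl (p : ℕ) [Fact p.Prime] [CharP F p] (hn : 2 ≤ n)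
    (A : Subgroup (MulAut (Matrix.ProjectiveSpecialLinearGroup (Fin n) F))) (hnil : Group.IsNilpotent A)
    (hodd : Odd (Nat.card A))
    (hInn : A ⊓ (MulAut.conj : Matrix.ProjectiveSpecialLinearGroup (Fin n) F →* _).range = ⊥)
    (hcyc : ¬ IsCyclic A) (hfpf : ∀ x, (∀ a ∈ A, a x = x) → x = 1)
    (hsol : ∀ X : Subgroup (Matrix.ProjectiveSpecialLinearGroup (Fin n) F), X ≠ ⊤ →
      (∀ a ∈ A, ∀ x ∈ X, a x ∈ X) → Group.IsSolvable X) :
    ∃ a ∈ A, a ≠ 1 ∧ (∀ b ∈ A, a * b = b * a) ∧ ∃ u, u ≠ 1 ∧ u ^ p = 1 ∧ a u = u := by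
  classical
  have hnt : Nontrivial (Fin n) := Fin.nontrivial_iff_two_le.2 hn
  have hne : Nonempty (Fin n) := inferInstance
  have hfin : Finite A := inferInstance
  -- the field part
  have hrep : ∀ a : A, ∃ x : GL (Fin n) F × (F ≃+* F), (a : MulAut _) = lift (cj x.1 * fld x.2) := by
    intro a
    have h1 : (a : MulAut (Matrix.ProjectiveSpecialLinearGroup (Fin n) F)) ^ Nat.card A = 1 := by
      rw [← Subgroup.coe_pow, pow_card_eq_one', Subgroup.coe_one]
    obtain ⟨g, σ, h2⟩ := exists_of_odd hn hodd h1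
    exact ⟨(g, σ), h2⟩
  choose P hP using hrep
  let s : A →* (F ≃+* F) :=
    { toFun := fun a => (P a).2
      map_one' := by
        have h1 : lift (cj (P 1).1 * fld (P 1).2) = lift (cj (1 : GL (Fin n) F) * fld (1 : F ≃+* F)) := by
          rw [← hP, map_one, map_one, one_mul, map_one]
          rfl
        exact (uniq h1).2
      map_mul' := by
        intro a b
        have h1 : lift (cj (P (a * b)).1 * fld (P (a * b)).2) =
            lift (cj ((P a).1 * fgl (P a).2 (P b).1) * fld ((P a).2 * (P b).2)) := by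
          rw [← cjfld_mul, map_mul lift (cj (P a).1 * fld (P a).2), ← hP, ← hP, ← hP]
          rfl
        exact (uniq h1).2 }
  have hcycF : IsCyclic (F ≃+* F) := LieRecognition.FieldSemilinear.isCyclic_ringAut F
  obtain ⟨⟨T, hTA⟩, r, hr, hord, hst, hcen'⟩ := exists_central hnil hcyc s
  have hrodd : Odd r := by
    have h1 : r ∣ Nat.card A := hord ▸ orderOf_dvd_natCard _
    exact hodd.of_dvd_nat h1
  rw [Subgroup.orderOf_mk] at hord
  have hcen : ∀ b ∈ A, T * b = b * T := fun b hb => congrArg Subtype.val (hcen' ⟨b, hb⟩)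
  have hT1 : T ≠ 1 := by
    intro h
    rw [h, orderOf_one] at hord
    exact hr.one_lt.ne hord
  obtain ⟨g, hg⟩ : ∃ g : GL (Fin n) F, g = (P ⟨T, hTA⟩).1 := ⟨_, rfl⟩
  have hTg : T = lift (cj g) := by
    have h1 : (P ⟨T, hTA⟩).2 = 1 := hst
    have h2 := hP ⟨T, hTA⟩
    rw [h1, map_one, mul_one, ← hg] at h2
    exact h2
  refine ⟨T, hTA, hT1, hcen, ?_⟩
  by_contra hno
  push Not at hno
  -- `T` is not inner
  have hninn : T ∉ (MulAut.conj : Matrix.ProjectiveSpecialLinearGroup (Fin n) F →* _).range := by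
    intro h
    have h1 : T ∈ A ⊓ (MulAut.conj : Matrix.ProjectiveSpecialLinearGroup (Fin n) F →* _).range := ⟨hTA, h⟩
    rw [hInn, Subgroup.mem_bot] at h1
    exact hT1 h1
  have hTr : (lift (cj g)) ^ r = 1 := by
    rw [← hTg, ← hord, pow_orderOf_eq_one]
  have hrp : r ≠ p := by
    rintro rfl
    exact hninn (by rw [hTg]; exact inner_of_lin hn hTr)
  obtain ⟨l, hl⟩ : ∃ l : Fˣ, g ^ r = scg l := by
    have h1 : lift (cj (g ^ r) * fld (1 : F ≃+* F)) = lift (cj (1 : GL (Fin n) F) * fld (1 : F ≃+* F)) := by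
      rw [map_one fld, mul_one, map_pow, map_pow, hTr, map_one, mul_one, map_one]
    obtain ⟨⟨l, hl⟩, -⟩ := uniq h1
    exact ⟨l, by rw [hl, mul_one]⟩
  have hδ1 : ∀ c : Fˣ, Matrix.GeneralLinearGroup.det g ≠ c ^ n := by
    intro c hc
    apply hninn
    rw [hTg]
    exact inner_of_det (c := c) (by rw [hc, Fintype.card_fin])
  have hδ2 : Matrix.GeneralLinearGroup.det g ^ r = l ^ n := by
    rw [← map_pow, hl, det_scg, Fintype.card_fin]
  have hrn : r ∣ n := dvd_of_not_pow hr hδ1 hδ2
  obtain ⟨w, hw⟩ := exists_root hr hrn hδ1 hδ2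
  have hwr : w ^ r = 1 := by rw [← hw, pow_orderOf_eq_one]
  -- no nilpotent elements in the centralizer of `g`
  let f : Module.End F (Fin n → F) := Matrix.toLin' (g : Matrix (Fin n) (Fin n) F)
  have hfpow : ∀ i : ℕ, f ^ i = Matrix.toLin' ((g ^ i : GL (Fin n) F) : Matrix (Fin n) (Fin n) F) := by
    intro i
    rw [Units.val_pow_eq_pow_val, Matrix.toLin'_pow]
  have hfr : ∀ x, (f ^ r) x = (l : F) • x := by
    intro x
    rw [hfpow, hl, Matrix.toLin'_apply]
    exact scalar_apply_eq (C := scg l) rfl x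
  have hN : ∀ N : Module.End F (Fin n → F), N * N = 0 → N * f = f * N → N = 0 := by
    intro N hNN hNf
    obtain ⟨M, rfl⟩ : ∃ M : Matrix (Fin n) (Fin n) F, Matrix.toLin' M = N := ⟨LinearMap.toMatrix' N, Matrix.toLin'_toMatrix' N⟩
    have hMM : M * M = 0 := by
      apply Matrix.toLin'.injective
      rw [Matrix.toLin'_mul, map_zero]
      exact hNN
    have hMg : M * (g : Matrix (Fin n) (Fin n) F) = (g : Matrix (Fin n) (Fin n) F) * M := by
      apply Matrix.toLin'.injective
      rw [Matrix.toLin'_mul, Matrix.toLin'_mul]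
      exact hNf
    have hpow : (1 + M) ^ p = 1 := by
      rw [add_pow_char_of_commute _ (Commute.one_left M), one_pow]
      obtain ⟨k, hk⟩ : ∃ k, p = k + 2 := ⟨p - 2, by have := (Fact.out : p.Prime).two_le; omega⟩
      rw [hk, pow_add, pow_two, hMM, mul_zero, add_zero]
    have hdet : (1 + M).det = 1 := by
      have h2 : (1 + M).det ^ p = 1 ^ p := by
        rw [← det_pow, hpow, det_one, one_pow]
      exact frobenius_inj F p h2
    obtain ⟨u, hu⟩ : ∃ u : Matrix.SpecialLinearGroup (Fin n) F, (u : Matrix (Fin n) (Fin n) F) = 1 + M := ⟨⟨1 + M, hdet⟩, rfl⟩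
    have h1 : pr u = 1 := by
      by_contra hu1
      apply hno (pr u) hu1
      · rw [← map_pow]
        have h2 : u ^ p = 1 := by
          apply Subtype.ext
          rw [Matrix.SpecialLinearGroup.coe_pow, hu, hpow]
          rfl
        rw [h2, map_one]
      · rw [hTg, lift_pr]
        congr 1
        apply Subtype.ext
        rw [coe_cj, hu, mul_add, mul_one, ← hMg, add_mul, mul_assoc M, ← Units.val_mul, mul_inv_cancel, Units.val_one,
          mul_one]
    rw [← map_one pr, eq_comm, pr_eq_iff] at h1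
    obtain ⟨c, hc⟩ := h1
    have h2 := congrArg Units.val hc
    change (u : Matrix (Fin n) (Fin n) F) = scalar (Fin n) (c : F) * (1 : Matrix (Fin n) (Fin n) F) at h2
    have h3 : M = scalar (Fin n) ((c : F) - 1) := by
      rw [map_sub, map_one, eq_sub_iff_add_eq, add_comm, ← hu, h2, mul_one]
    rw [h3, ← map_mul] at hMM
    have h4 : ((c : F) - 1) * ((c : F) - 1) = 0 := by
      have h5 := congrFun (congrFun hMM ⟨0, by omega⟩) ⟨0, by omega⟩
      rwa [scalar_apply, diagonal_apply_eq] at h5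
    rw [h3, mul_self_eq_zero.1 h4, map_zero, map_zero]
  -- a cyclic vector
  have hss : f.IsSemisimple := by
    have hrF : (r : F) ≠ 0 := by
      rw [Ne, CharP.cast_eq_zero_iff F p, Nat.prime_dvd_prime_iff_eq Fact.out hr]
      exact fun h => hrp h.symm
    refine Module.End.isSemisimple_of_squarefree_aeval_eq_zero
      (Polynomial.separable_X_pow_sub_C (l : F) hrF l.ne_zero).squarefree ?_
    rw [map_sub, map_pow, Polynomial.aeval_X, Polynomial.aeval_C, sub_eq_zero]
    apply LinearMap.ext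
    intro x
    rw [hfr x]
    rfl
  obtain ⟨v, hv⟩ := exists_cyclic f hss hN
  have hfr0 : 0 < r := hr.pos
  have hle := finrank_le hv hfr hfr0
  rw [Module.finrank_fin_fun] at hle
  have hnr : n = r := le_antisymm hle (Nat.le_of_dvd (by omega) hrn)
  obtain ⟨D, hD1, hD2⟩ := exists_twist hv hfr hrodd (by rw [Module.finrank_fin_fun, hnr]) (w := (w : F))
    (by rw [← Units.val_pow_eq_pow_val, hwr, Units.val_one])
  obtain ⟨d, hd⟩ : ∃ d : Matrix.SpecialLinearGroup (Fin n) F, Matrix.toLin' (d : Matrix (Fin n) (Fin n) F) = D := by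
    refine ⟨⟨LinearMap.toMatrix' D, ?_⟩, Matrix.toLin'_toMatrix' D⟩
    rw [LinearMap.det_toMatrix', hD1]
  have hdg : Tw g (scg w) (tg d) := by
    apply Units.ext
    change (d : Matrix (Fin n) (Fin n) F) * (g : Matrix (Fin n) (Fin n) F) =
      scalar (Fin n) (w : F) * ((g : Matrix (Fin n) (Fin n) F) * (d : Matrix (Fin n) (Fin n) F))
    rw [scalar_apply, ← smul_one_eq_diagonal, smul_mul_assoc, one_mul]
    apply Matrix.toLin'.injective
    rw [map_smul, Matrix.toLin'_mul, Matrix.toLin'_mul, hd]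
    exact hD2
  -- the fixed points of `T`
  let X : Subgroup (Matrix.ProjectiveSpecialLinearGroup (Fin n) F) :=
    { carrier := {x | T x = x}
      mul_mem' := by
        intro x y hx hy
        change T (x * y) = x * y
        rw [map_mul, hx, hy]
      one_mem' := map_one _
      inv_mem' := by
        intro x hx
        change T x⁻¹ = x⁻¹
        rw [map_inv, hx] }
  have hXtop : X ≠ ⊤ := by
    intro h
    apply hT1
    ext x
    have h1 : x ∈ X := by rw [h]; trivial
    exact h1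
  have hXA : ∀ a ∈ A, ∀ x ∈ X, a x ∈ X := by
    intro a ha x hx
    change (T * a) x = a x
    rw [hcen a ha]
    change a (T x) = a x
    rw [hx]
  have hXsol := hsol X hXtop hXA
  let act : MulDistribMulAction A X :=
    { smul := fun a x => ⟨(a : MulAut _) x, hXA a a.2 x x.2⟩
      one_smul := fun x => rfl
      mul_smul := fun a b x => rfl
      smul_mul := fun a x y => Subtype.ext (map_mul (a : MulAut _) (x : Matrix.ProjectiveSpecialLinearGroup (Fin n) F) y)
      smul_one := fun a => Subtype.ext (map_one (a : MulAut (Matrix.ProjectiveSpecialLinearGroup (Fin n) F))) }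
  -- twisted commutation
  have hcomm : ∀ x : Matrix.SpecialLinearGroup (Fin n) F, pr x ∈ X ↔ ∃ c : Fˣ, Tw g (scg c) (tg x) := by
    intro x
    change T (pr x) = pr x ↔ _
    rw [hTg, lift_pr, pr_eq_iff, tg_cj]
    constructor
    · rintro ⟨c, hc⟩
      refine ⟨c, ?_⟩
      unfold Tw
      rw [← eq_mul_inv_iff_mul_eq, mul_assoc]
      exact hc
    · rintro ⟨c, hc⟩
      refine ⟨c, ?_⟩
      unfold Tw at hc
      rw [← mul_assoc, eq_mul_inv_iff_mul_eq, hc]
  -- the action on `cj`
  have hact : ∀ a ∈ A, ∃ (h : GL (Fin n) F) (σ : F ≃+* F), a = lift (cj h * fld σ) ∧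
      Units.map (σ : F →* F) w = w ∧
      ∀ (κ : Fˣ) (x : Matrix.SpecialLinearGroup (Fin n) F), Tw g (scg κ) (tg x) →
        Tw g (scg (Units.map (σ : F →* F) κ)) (tg ((cj h * fld σ : MulAut (Matrix.SpecialLinearGroup (Fin n) F)) x)) := by
    intro a ha
    obtain ⟨h, σ, h1⟩ : ∃ (h : GL (Fin n) F) (σ : F ≃+* F), a = lift (cj h * fld σ) := ⟨_, _, hP ⟨a, ha⟩⟩
    have h3 := hcen a ha
    rw [h1, hTg] at h3
    obtain ⟨h4, h5⟩ := tw_act h3 hr (by rwa [Fintype.card_fin]) (by rwa [Fintype.card_fin]) hwr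
    exact ⟨h, σ, h1, h4, h5⟩
  -- the subgroup of the elements commuting with `g`
  let X0 : Subgroup X :=
    { carrier := {x | ∃ y : Matrix.SpecialLinearGroup (Fin n) F, pr y = x ∧ Tw g 1 (tg y)}
      mul_mem' := by
        rintro x y ⟨x', hx, hx'⟩ ⟨y', hy, hy'⟩
        refine ⟨x' * y', by rw [map_mul, hx, hy]; rfl, ?_⟩
        unfold Tw at *
        rw [one_mul] at *
        rw [map_mul, mul_assoc, hy', ← mul_assoc, hx', mul_assoc]
      one_mem' := ⟨1, map_one _, by unfold Tw; rw [map_one, one_mul, one_mul, mul_one]⟩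
      inv_mem' := by
        rintro x ⟨x', hx, hx'⟩
        refine ⟨x'⁻¹, by rw [map_inv, hx]; rfl, ?_⟩
        unfold Tw at *
        rw [one_mul] at *
        rw [map_inv, inv_mul_eq_iff_eq_mul, ← mul_assoc, eq_mul_inv_iff_mul_eq, hx'] }
  have hX0n : X0.Normal := by
    refine ⟨?_⟩
    rintro x ⟨x', hx, hx'⟩ ⟨y, hy⟩
    obtain ⟨y', rfl⟩ := pr_surjective y
    obtain ⟨c, hc⟩ := (hcomm y').1 hy
    refine ⟨y' * x' * y'⁻¹, by rw [map_mul, map_mul, map_inv, hx]; rfl, ?_⟩
    rw [map_mul, map_mul, map_inv]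
    exact Tw.conj (scg_comm c) hc hx'
  have hdX : pr d ∈ X := (hcomm d).2 ⟨w, hdg⟩
  have hfin : Finite X := inferInstance
  have key := H523.FpfAct.mem_of_fixed_mod (G := X) (B := A) hXsol hnil
    (fun x hx => Subtype.ext (hfpf x (fun a ha => congrArg Subtype.val (hx ⟨a, ha⟩)))) X0
    (by
      rintro ⟨a, ha⟩ x ⟨x', hx, hx'⟩
      obtain ⟨h, σ, h1, -, h2⟩ := hact a ha
      refine ⟨(cj h * fld σ : MulAut (Matrix.SpecialLinearGroup (Fin n) F)) x', ?_, ?_⟩
      · change pr ((cj h * fld σ : MulAut (Matrix.SpecialLinearGroup (Fin n) F)) x') = a x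
        rw [← lift_pr, hx, h1]
      · have h3 := h2 1 x' (by rw [scg_one]; exact hx')
        rwa [map_one, scg_one] at h3)
    (x := ⟨pr d, hdX⟩)
    (by
      rintro ⟨a, ha⟩
      obtain ⟨h, σ, h1, h0, h2⟩ := hact a ha
      refine ⟨d⁻¹ * (cj h * fld σ : MulAut (Matrix.SpecialLinearGroup (Fin n) F)) d, ?_, ?_⟩
      · rw [map_mul, map_inv, ← lift_pr, ← h1]
        rfl
      · have h3 := h2 w d hdg
        rw [h0] at h3
        rw [map_mul, map_inv]
        exact Tw.inv_mul hdg h3)
  obtain ⟨y, hy, hy'⟩ := key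
  change pr y = pr d at hy
  obtain ⟨c, hc⟩ := pr_eq_iff.1 hy
  have h1 : tg d * g = g * tg d := by
    unfold Tw at hy'
    rw [one_mul] at hy'
    rw [hc, mul_assoc, hy', ← mul_assoc, scg_comm, mul_assoc]
  unfold Tw at hdg
  rw [h1, right_eq_mul] at hdg
  have h2 : scalar (Fin n) (w : F) (⟨0, by omega⟩ : Fin n) ⟨0, by omega⟩ =
      (1 : Matrix (Fin n) (Fin n) F) ⟨0, by omega⟩ ⟨0, by omega⟩ := by
    change (scg w : GL (Fin n) F).1 _ _ = _
    rw [hdg]
    rfl
  rw [scalar_apply, diagonal_apply_eq, one_apply_eq] at h2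
  have h3 : w = 1 := Units.ext h2
  rw [h3, orderOf_one] at hw
  exact hr.one_lt.ne hw

end Main

end Cfsg.Agent.H864.FpfPSL
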