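import Mathlib
import Cfsg.Agent.H864.FpfPSL
import Cfsg.Agent.H523.FpfBad
import Cfsg.Prelude.Def_LieTypeChar

/-!
# `PSL_n(F)` has no bad group of automorphisms

`noBad_psl`, `noBad_of_char` : the case `PSL_n(F)` of the theorem of Belyaev and Hartley.
-/

set_option autoImplicit false
set_option linter.unusedSectionVars false

namespace Cfsg.Agent.H864.NoBadPSL

open Matrix Cfsg
open Cfsg.Agent.ClassicalGeometry.AutPSL.Root
open Cfsg.Agent.ClassicalGeometry.AutPSL.Auto
open Cfsg.Agent.ClassicalGeometry.AutPSL.Main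
open Cfsg.Agent.CpAut.Psl
open Cfsg.Agent.H864.CyclicVec Cfsg.Agent.H864.Twist Cfsg.Agent.H864.FpfPSL
open Cfsg.Agent.H523

section Lin

variable {ι F : Type*} [Fintype ι] [DecidableEq ι] [Field F]

/-- Inverse transpose as a homomorphism. -/
def itgh : GL ι F →* GL ι F where
  toFun := itg
  map_one' := by
    apply Units.ext
    change (((1 : GL ι F)⁻¹ : GL ι F) : Matrix ι ι F)ᵀ = 1
    rw [inv_one, Units.val_one, transpose_one]
  map_mul' A B := by
    apply Units.ext
    change (((A * B)⁻¹ : GL ι F) : Matrix ι ι F)ᵀ = ((A⁻¹ : GL ι F) : Matrix ι ι F)ᵀ * ((B⁻¹ : GL ι F) : Matrix ι ι F)ᵀ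
    rw [← transpose_mul, ← Units.val_mul, _root_.mul_inv_rev]

theorem itgh_apply (A : GL ι F) : itgh A = itg A := rfl

theorem itgh_scg (c : Fˣ) : itgh (scg (ι := ι) c) = scg c⁻¹ := by
  apply Units.ext
  have h1 : (scg (ι := ι) c)⁻¹ = scg c⁻¹ := by
    rw [inv_eq_iff_mul_eq_one, ← scg_mul, mul_inv_cancel, scg_one]
  change (((scg (ι := ι) c)⁻¹ : GL ι F) : Matrix ι ι F)ᵀ = scalar ι ((c⁻¹ : Fˣ) : F)
  rw [h1]
  change (scalar ι ((c⁻¹ : Fˣ) : F))ᵀ = _
  rw [scalar_apply, diagonal_transpose]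

theorem det_itgh (g : GL ι F) : Matrix.GeneralLinearGroup.det (itgh g) = (Matrix.GeneralLinearGroup.det g)⁻¹ := by
  rw [← map_inv]
  apply Units.ext
  change (((g⁻¹ : GL ι F) : Matrix ι ι F)ᵀ).det = ((g⁻¹ : GL ι F) : Matrix ι ι F).det
  rw [det_transpose]

theorem tg_itr (x : Matrix.SpecialLinearGroup ι F) : tg (itr x) = itgh (tg x) := by
  apply Units.ext
  rw [coe_tg, coe_itr]
  change _ = (((tg x)⁻¹ : GL ι F) : Matrix ι ι F)ᵀ
  rw [← map_inv]
  rfl

/-- Transport of the twisted commutation relations. -/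
theorem tw_gen [Finite F] {g h : GL ι F} (φ : GL ι F →* GL ι F) (θ : Fˣ →* Fˣ)
    (hdet : ∀ x, Matrix.GeneralLinearGroup.det (φ x) = θ (Matrix.GeneralLinearGroup.det x))
    (hscg : ∀ c, φ (scg c) = scg (θ c)) {p : ℕ} {l w c : Fˣ} (hc : h * φ g = scg c * (g * h)) (hp : p.Prime)
    (h1 : ∀ c : Fˣ, Matrix.GeneralLinearGroup.det g ≠ c ^ Fintype.card ι)
    (h2 : Matrix.GeneralLinearGroup.det g ^ p = l ^ Fintype.card ι) (hw : w ^ p = 1) :
    θ w = w ∧ ∀ (κ : Fˣ) (x : Matrix.SpecialLinearGroup ι F), Tw g (scg κ) (tg x) →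
      Tw g (scg (θ κ)) (h * φ (tg x) * h⁻¹) := by
  refine ⟨?_, ?_⟩
  · have h5 := congrArg Matrix.GeneralLinearGroup.det hc
    rw [map_mul, map_mul, map_mul, det_scg, hdet, mul_comm _ (Matrix.GeneralLinearGroup.det h),
      mul_left_comm] at h5
    exact pow_eq_of_fixed θ hp h1 h2 (mul_left_cancel h5) hw
  · intro κ x hx
    have h6 := Tw.map φ (scg_comm c) (by rw [hscg]; exact scg_comm _) hc hx
    rwa [hscg] at h6

/-- The action of an automorphism commuting with `lift (cj g)`. -/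
theorem tw_aut [Finite F] [Nontrivial ι] {g : GL ι F} {a : MulAut (Matrix.ProjectiveSpecialLinearGroup ι F)}
    (hrep : (∃ (A : GL ι F) (σ : F ≃+* F), a = lift (cj A * fld σ)) ∨
      (∃ (A : GL ι F) (σ : F ≃+* F), a = lift (cj A * fld σ * itr)))
    (e : a * lift (cj g) = lift (cj g) * a) {p : ℕ} {l w : Fˣ} (hp : p.Prime)
    (h1 : ∀ c : Fˣ, Matrix.GeneralLinearGroup.det g ≠ c ^ Fintype.card ι)
    (h2 : Matrix.GeneralLinearGroup.det g ^ p = l ^ Fintype.card ι) (hw : w ^ p = 1) :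
    ∃ (α : MulAut (Matrix.SpecialLinearGroup ι F)) (θ : Fˣ →* Fˣ), a = lift α ∧ θ w = w ∧
      ∀ (κ : Fˣ) (x : Matrix.SpecialLinearGroup ι F), Tw g (scg κ) (tg x) → Tw g (scg (θ κ)) (tg (α x)) := by
  rcases hrep with ⟨h, σ, rfl⟩ | ⟨h, σ, rfl⟩
  · have h3 : lift (cj (h * fgl σ g) * fld σ) = lift (cj (g * h) * fld σ) := by
      have h4 : (cj g : MulAut (Matrix.SpecialLinearGroup ι F)) = cj g * fld 1 := by rw [map_one, mul_one]
      rw [← map_mul, ← map_mul, h4, cjfld_mul, cjfld_mul, fgl_one, one_mul, mul_one] at e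
      exact e
    obtain ⟨⟨c, hc⟩, -⟩ := uniq h3
    obtain ⟨h5, h6⟩ := tw_gen (fgl σ) (Units.map (σ : F →* F)) (det_fgl σ) (fgl_scg σ) hc hp h1 h2 hw
    refine ⟨cj h * fld σ, Units.map (σ : F →* F), rfl, h5, ?_⟩
    intro κ x hx
    rw [MulAut.mul_apply, tg_cj, tg_fld]
    exact h6 κ x hx
  · have h3 : lift (cj (h * fgl σ (itg g)) * fld σ) = lift (cj (g * h) * fld σ) := by
      have h4 : cj h * fld σ * itr * cj g = cj (h * fgl σ (itg g)) * fld σ * itr := by
        have h5 : (cj (itg g) : MulAut (Matrix.SpecialLinearGroup ι F)) = cj (itg g) * fld 1 := by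
          rw [map_one, mul_one]
        rw [mul_assoc (cj h * fld σ), itr_mul_cj, ← mul_assoc (cj h * fld σ), h5, cjfld_mul, mul_one]
      have h6 : cj g * (cj h * fld σ * itr) = cj (g * h) * fld σ * itr := by
        rw [map_mul, mul_assoc, mul_assoc, mul_assoc]
      rw [← map_mul, ← map_mul, h4, h6, map_mul lift _ itr, map_mul lift _ itr] at e
      exact mul_right_cancel e
    obtain ⟨⟨c, hc⟩, -⟩ := uniq h3
    obtain ⟨h5, h6⟩ := tw_gen ((fgl σ).comp itgh) ((Units.map (σ : F →* F)).comp invMonoidHom)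
      (fun x => by
        rw [MonoidHom.comp_apply, det_fgl, det_itgh]
        rfl)
      (fun c => by
        rw [MonoidHom.comp_apply, itgh_scg, fgl_scg]
        rfl) (h := h) (g := g) (c := c) hc hp h1 h2 hw
    refine ⟨cj h * fld σ * itr, _, rfl, h5, ?_⟩
    intro κ x hx
    rw [MulAut.mul_apply, MulAut.mul_apply, tg_cj, tg_fld, tg_itr]
    exact h6 κ x hx

theorem weyl {R : Type*} [Ring R] {a b : R} (ha : a * a = 0) (hb : b * b = 0) (hab : a * b * a = a) (hba : b * a * b = b) :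
    ((1 + a) * (1 + -b) * (1 + a)) ^ 4 = 1 ∧ (1 + a) * (1 + -b) * (1 + a) = 1 - a * b - b * a + a - b := by
  have h1 : (1 + a) * (1 + -b) * (1 + a) = 1 - a * b - b * a + a - b := by
    have : (1 + a) * (1 + -b) * (1 + a) = 1 - a * b - b * a + a - b + (a - a * b * a) + a * a := by noncomm_ring
    rw [this, ha, hab, sub_self, add_zero, add_zero]
  have h2 : (1 - a * b - b * a + a - b) * (1 - a * b - b * a + a - b) = 1 - 2 * (a * b) - 2 * (b * a) := by
    have h3 : a * (a * b) = 0 := by rw [← mul_assoc, ha, zero_mul]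
    have h4 : b * (b * a) = 0 := by rw [← mul_assoc, hb, zero_mul]
    have h5 : a * (b * a) = a := by rw [← mul_assoc, hab]
    have h6 : b * (a * b) = b := by rw [← mul_assoc, hba]
    simp only [mul_add, add_mul, mul_sub, sub_mul, mul_one, one_mul, mul_assoc, ha, hb, h3, h4, h5, h6, mul_zero,
      two_mul]
    abel
  refine ⟨?_, h1⟩
  rw [h1, show (4 : ℕ) = 2 + 2 from rfl, pow_add, pow_two, h2]
  have h3 : a * (a * b) = 0 := by rw [← mul_assoc, ha, zero_mul]
  have h4 : b * (b * a) = 0 := by rw [← mul_assoc, hb, zero_mul]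
  have h5 : a * (b * a) = a := by rw [← mul_assoc, hab]
  have h6 : b * (a * b) = b := by rw [← mul_assoc, hba]
  simp only [mul_add, add_mul, mul_sub, sub_mul, mul_one, one_mul, mul_assoc, ha, hb, h3, h4, h5, h6, mul_zero,
      two_mul]
  abel

theorem two_dvd [Finite F] [Nontrivial ι] : 2 ∣ Nat.card (Matrix.ProjectiveSpecialLinearGroup ι F) := by
  obtain ⟨i, j, hij⟩ := exists_pair_ne ι
  obtain ⟨W, hW⟩ : ∃ W : Matrix.SpecialLinearGroup ι F,
      W = Matrix.SpecialLinearGroup.transvection hij (1 : F) * Matrix.SpecialLinearGroup.transvection hij.symm (-1 : F) *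
        Matrix.SpecialLinearGroup.transvection hij (1 : F) := ⟨_, rfl⟩
  have hW1 : (W : Matrix ι ι F) = (1 + single i j (1 : F)) * (1 + -single j i (1 : F)) * (1 + single i j (1 : F)) := by
    rw [hW, Matrix.SpecialLinearGroup.coe_mul, Matrix.SpecialLinearGroup.coe_mul, single_neg]
    rfl
  obtain ⟨h1, h2⟩ := weyl (a := single i j (1 : F)) (b := single j i (1 : F))
    (single_mul_single_of_ne _ _ _ _ hij.symm _) (single_mul_single_of_ne _ _ _ _ hij _)
    (by rw [single_mul_single_same, single_mul_single_same, one_mul, one_mul])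
    (by rw [single_mul_single_same, single_mul_single_same, one_mul, one_mul])
  have hW4 : W ^ 4 = 1 := by
    apply Subtype.ext
    rw [Matrix.SpecialLinearGroup.coe_pow, hW1, h1, Matrix.SpecialLinearGroup.coe_one]
  have hW0 : pr W ≠ 1 := by
    intro h
    rw [← map_one pr, eq_comm] at h
    obtain ⟨c, hc⟩ := exists_smul_of_pr_eq h
    rw [hW1, h2, single_mul_single_same, single_mul_single_same] at hc
    have h3 := congrFun (congrFun hc i) j
    simp [hij, hij.symm] at h3
  have h3 : orderOf (pr W) ∣ 4 := orderOf_dvd_of_pow_eq_one (by rw [← map_pow, hW4, map_one])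
  have h4 : orderOf (pr W) ≠ 1 := fun h => hW0 (orderOf_eq_one_iff.1 h)
  have h5 : orderOf (pr W) ∣ 2 ^ 2 := h3
  obtain ⟨k, hk, hk'⟩ := (Nat.dvd_prime_pow Nat.prime_two).1 h5
  have h6 : k ≠ 0 := by
    rintro rfl
    exact h4 hk'
  refine (dvd_pow_self 2 h6).trans ?_
  rw [← hk']
  exact orderOf_dvd_natCard _

theorem char_dvd [Finite F] [Nontrivial ι] (p : ℕ) [Fact p.Prime] [CharP F p] :
    p ∣ Nat.card (Matrix.ProjectiveSpecialLinearGroup ι F) := by
  obtain ⟨i, j, hij⟩ := exists_pair_ne ι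
  have h2 : pr (Matrix.SpecialLinearGroup.transvection hij (1 : F)) ≠ 1 := by
    intro h
    have h3 : pr (Matrix.SpecialLinearGroup.transvection hij (1 : F)) = pr (Matrix.SpecialLinearGroup.transvection hij (0 : F)) := by
      rw [h]
      have : Matrix.SpecialLinearGroup.transvection hij (0 : F) = 1 := by
        apply Subtype.ext
        change (1 : Matrix ι ι F) + single i j 0 = 1
        rw [single_zero, add_zero]
      rw [this, map_one]
    exact one_ne_zero (Cfsg.Agent.ClassicalGeometry.AutPSL.Images.pr_transvection_injective hij h3)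
  have h3 : (Matrix.SpecialLinearGroup.transvection hij (1 : F)) ^ p = 1 := by
    apply Subtype.ext
    rw [Matrix.SpecialLinearGroup.coe_pow]
    change (1 + single i j (1 : F)) ^ p = 1
    rw [add_pow_char_of_commute _ (Commute.one_left _), one_pow]
    obtain ⟨k, hk⟩ : ∃ k, p = k + 2 := ⟨p - 2, by have := (Fact.out : p.Prime).two_le; omega⟩
    rw [hk, pow_add, pow_two, Matrix.single_mul_single_of_ne _ _ _ _ hij.symm, mul_zero, add_zero]
  have h4 : orderOf (pr (Matrix.SpecialLinearGroup.transvection hij (1 : F))) = p :=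
    orderOf_eq_prime (by rw [← map_pow, h3, map_one]) h2
  rw [← h4]
  exact orderOf_dvd_natCard _

end Lin

section Main

variable {F : Type*} [Field F] [Fintype F] {n : ℕ}

/-- **`PSL_n(F)` has no bad group of automorphisms.** -/
theorem noBad_psl (r : ℕ) [hrp : Fact r.Prime] [CharP F r] (hn : 2 ≤ n) :
    NoBad r (Matrix.ProjectiveSpecialLinearGroup (Fin n) F) := by
  classical
  intro A hA
  have hnt : Nontrivial (Fin n) := Fin.nontrivial_iff_two_le.2 hn
  have hne : Nonempty (Fin n) := inferInstance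
  obtain ⟨p, hp, hp2, hpr, T, hTA, hord, hcen⟩ := hA.exists_odd hrp.out two_dvd (char_dvd r)
  have hpodd : Odd p := hp.odd_of_ne_two hp2
  have hT1 : T ≠ 1 := by
    intro h
    rw [h, orderOf_one] at hord
    exact hp.one_lt.ne hord
  have hno := hA.cent T hTA hT1 hcen
  have hninn : T ∉ (MulAut.conj : Matrix.ProjectiveSpecialLinearGroup (Fin n) F →* _).range := by
    rintro ⟨x, hx⟩
    exact hT1 (hA.inn T hTA ⟨x, hx.symm⟩)
  -- `T` is linear
  obtain ⟨g, hTg⟩ : ∃ g : GL (Fin n) F, T = lift (cj g) := by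
    obtain ⟨g, σ, h1⟩ := exists_of_odd hn hpodd (α := T) (by rw [← hord, pow_orderOf_eq_one])
    by_cases hσ : σ = 1
    · exact ⟨g, by rw [h1, hσ, map_one, mul_one]⟩
    · exfalso
      obtain ⟨u, hu1, hu2, hu3⟩ := field_fix r hn hp (g := g) (σ := σ) (by rw [← h1, ← hord, pow_orderOf_eq_one]) hσ
      exact hu1 (hno u (by rw [h1, hu3]) hu2)
  have hTr : (lift (cj g)) ^ p = 1 := by
    rw [← hTg, ← hord, pow_orderOf_eq_one]
  obtain ⟨l, hl⟩ : ∃ l : Fˣ, g ^ p = scg l := by
    have h1 : lift (cj (g ^ p) * fld (1 : F ≃+* F)) = lift (cj (1 : GL (Fin n) F) * fld (1 : F ≃+* F)) := by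
      rw [map_one fld, mul_one, map_pow, map_pow, hTr, map_one, mul_one, map_one]
    obtain ⟨⟨l, hl⟩, -⟩ := uniq h1
    exact ⟨l, by rw [hl, mul_one]⟩
  have hδ1 : ∀ c : Fˣ, Matrix.GeneralLinearGroup.det g ≠ c ^ n := by
    intro c hc
    apply hninn
    rw [hTg]
    exact inner_of_det (c := c) (by rw [hc, Fintype.card_fin])
  have hδ2 : Matrix.GeneralLinearGroup.det g ^ p = l ^ n := by
    rw [← map_pow, hl, det_scg, Fintype.card_fin]
  have hpn : p ∣ n := dvd_of_not_pow hp hδ1 hδ2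
  obtain ⟨w, hw⟩ := exists_root hp hpn hδ1 hδ2
  have hwp : w ^ p = 1 := by rw [← hw, pow_orderOf_eq_one]
  -- no nilpotent elements in the centralizer of `g`
  let f : Module.End F (Fin n → F) := Matrix.toLin' (g : Matrix (Fin n) (Fin n) F)
  have hfpow : ∀ i : ℕ, f ^ i = Matrix.toLin' ((g ^ i : GL (Fin n) F) : Matrix (Fin n) (Fin n) F) := by
    intro i
    rw [Units.val_pow_eq_pow_val, Matrix.toLin'_pow]
  have hfp : ∀ x, (f ^ p) x = (l : F) • x := by
    intro x
    rw [hfpow, hl, Matrix.toLin'_apply]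
    exact scalar_apply_eq (C := scg l) rfl x
  have hN : ∀ N : Module.End F (Fin n → F), N * N = 0 → N * f = f * N → N = 0 := by
    intro N hNN hNf
    obtain ⟨M, rfl⟩ : ∃ M : Matrix (Fin n) (Fin n) F, Matrix.toLin' M = N := ⟨LinearMap.toMatrix' N, Matrix.toLin'_toMatrix' N⟩
    have hMM : M * M = 0 := by
      apply Matrix.toLin'.injective
      rw [Matrix.toLin'_mul, map_zero]
      exact hNN
    have hMg : M * (g : Matrix (Fin n) (Fin n) F) = (g : Matrix (Fin n) (Fin n) F) * M := by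
      apply Matrix.toLin'.injective
      rw [Matrix.toLin'_mul, Matrix.toLin'_mul]
      exact hNf
    have hpow : (1 + M) ^ r = 1 := by
      rw [add_pow_char_of_commute _ (Commute.one_left M), one_pow]
      obtain ⟨k, hk⟩ : ∃ k, r = k + 2 := ⟨r - 2, by have := (Fact.out : r.Prime).two_le; omega⟩
      rw [hk, pow_add, pow_two, hMM, mul_zero, add_zero]
    have hdet : (1 + M).det = 1 := by
      have h2 : (1 + M).det ^ r = 1 ^ r := by
        rw [← det_pow, hpow, det_one, one_pow]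
      exact frobenius_inj F r h2
    obtain ⟨u, hu⟩ : ∃ u : Matrix.SpecialLinearGroup (Fin n) F, (u : Matrix (Fin n) (Fin n) F) = 1 + M := ⟨⟨1 + M, hdet⟩, rfl⟩
    have h1 : pr u = 1 := by
      apply hno (pr u)
      · rw [hTg, lift_pr]
        congr 1
        apply Subtype.ext
        rw [coe_cj, hu, mul_add, mul_one, ← hMg, add_mul, mul_assoc M, ← Units.val_mul, mul_inv_cancel, Units.val_one,
          mul_one]
      · rw [← map_pow]
        have h2 : u ^ r = 1 := by
          apply Subtype.ext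
          rw [Matrix.SpecialLinearGroup.coe_pow, hu, hpow]
          rfl
        rw [h2, map_one]
    rw [← map_one pr, eq_comm, pr_eq_iff] at h1
    obtain ⟨c, hc⟩ := h1
    have h2 := congrArg Units.val hc
    change (u : Matrix (Fin n) (Fin n) F) = scalar (Fin n) (c : F) * (1 : Matrix (Fin n) (Fin n) F) at h2
    have h3 : M = scalar (Fin n) ((c : F) - 1) := by
      rw [map_sub, map_one, eq_sub_iff_add_eq, add_comm, ← hu, h2, mul_one]
    rw [h3, ← map_mul] at hMM
    have h4 : ((c : F) - 1) * ((c : F) - 1) = 0 := by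
      have h5 := congrFun (congrFun hMM ⟨0, by omega⟩) ⟨0, by omega⟩
      rwa [scalar_apply, diagonal_apply_eq] at h5
    rw [h3, mul_self_eq_zero.1 h4, map_zero, map_zero]
  -- a cyclic vector
  have hss : f.IsSemisimple := by
    have hpF : (p : F) ≠ 0 := by
      rw [Ne, CharP.cast_eq_zero_iff F r, Nat.prime_dvd_prime_iff_eq Fact.out hp]
      exact fun h => hpr h.symm
    refine Module.End.isSemisimple_of_squarefree_aeval_eq_zero
      (Polynomial.separable_X_pow_sub_C (l : F) hpF l.ne_zero).squarefree ?_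
    rw [map_sub, map_pow, Polynomial.aeval_X, Polynomial.aeval_C, sub_eq_zero]
    apply LinearMap.ext
    intro x
    rw [hfp x]
    rfl
  obtain ⟨v, hv⟩ := exists_cyclic f hss hN
  have hfp0 : 0 < p := hp.pos
  have hle := finrank_le hv hfp hfp0
  rw [Module.finrank_fin_fun] at hle
  have hnr : n = p := le_antisymm hle (Nat.le_of_dvd (by omega) hpn)
  obtain ⟨D, hD1, hD2⟩ := exists_twist hv hfp hpodd (by rw [Module.finrank_fin_fun, hnr]) (w := (w : F))
    (by rw [← Units.val_pow_eq_pow_val, hwp, Units.val_one])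
  obtain ⟨d, hd⟩ : ∃ d : Matrix.SpecialLinearGroup (Fin n) F, Matrix.toLin' (d : Matrix (Fin n) (Fin n) F) = D := by
    refine ⟨⟨LinearMap.toMatrix' D, ?_⟩, Matrix.toLin'_toMatrix' D⟩
    rw [LinearMap.det_toMatrix', hD1]
  have hdg : Tw g (scg w) (tg d) := by
    apply Units.ext
    change (d : Matrix (Fin n) (Fin n) F) * (g : Matrix (Fin n) (Fin n) F) =
      scalar (Fin n) (w : F) * ((g : Matrix (Fin n) (Fin n) F) * (d : Matrix (Fin n) (Fin n) F))
    rw [scalar_apply, ← smul_one_eq_diagonal, smul_mul_assoc, one_mul]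
    apply Matrix.toLin'.injective
    rw [map_smul, Matrix.toLin'_mul, Matrix.toLin'_mul, hd]
    exact hD2
  -- the fixed points of `T`
  let X : Subgroup (Matrix.ProjectiveSpecialLinearGroup (Fin n) F) :=
    { carrier := {x | T x = x}
      mul_mem' := by
        intro x y hx hy
        change T (x * y) = x * y
        rw [map_mul, hx, hy]
      one_mem' := map_one _
      inv_mem' := by
        intro x hx
        change T x⁻¹ = x⁻¹
        rw [map_inv, hx] }
  have hXtop : X ≠ ⊤ := by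
    intro h
    apply hT1
    ext x
    have h1 : x ∈ X := by rw [h]; trivial
    exact h1
  have hXA : ∀ a ∈ A, ∀ x ∈ X, a x ∈ X := by
    intro a ha x hx
    change (T * a) x = a x
    rw [← hcen a ha]
    change a (T x) = a x
    rw [hx]
  -- twisted commutation
  have hcomm : ∀ x : Matrix.SpecialLinearGroup (Fin n) F, pr x ∈ X ↔ ∃ c : Fˣ, Tw g (scg c) (tg x) := by
    intro x
    change T (pr x) = pr x ↔ _
    rw [hTg, lift_pr, pr_eq_iff, tg_cj]
    constructor
    · rintro ⟨c, hc⟩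
      refine ⟨c, ?_⟩
      unfold Tw
      rw [← eq_mul_inv_iff_mul_eq, mul_assoc]
      exact hc
    · rintro ⟨c, hc⟩
      refine ⟨c, ?_⟩
      unfold Tw at hc
      rw [← mul_assoc, eq_mul_inv_iff_mul_eq, hc]
  -- the action of `A`
  have hact : ∀ a ∈ A, ∃ (α : MulAut (Matrix.SpecialLinearGroup (Fin n) F)) (θ : Fˣ →* Fˣ), a = lift α ∧ θ w = w ∧
      ∀ (κ : Fˣ) (x : Matrix.SpecialLinearGroup (Fin n) F), Tw g (scg κ) (tg x) → Tw g (scg (θ κ)) (tg (α x)) := by
    intro a ha
    have hrep : (∃ (A : GL (Fin n) F) (σ : F ≃+* F), a = lift (cj A * fld σ)) ∨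
        (∃ (A : GL (Fin n) F) (σ : F ≃+* F), a = lift (cj A * fld σ * itr)) := by
      rcases hn.eq_or_lt with h2 | h3
      · subst h2
        exact Or.inl (surj_two r a)
      · exact surj_three r h3 a
    exact tw_aut hrep (by rw [← hTg]; exact hcen a ha) hp (by rwa [Fintype.card_fin]) (by rwa [Fintype.card_fin]) hwp
  -- the subgroup of the elements commuting with `g`
  let X0 : Subgroup (Matrix.ProjectiveSpecialLinearGroup (Fin n) F) :=
    { carrier := {x | ∃ y : Matrix.SpecialLinearGroup (Fin n) F, pr y = x ∧ Tw g 1 (tg y)}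
      mul_mem' := by
        rintro x y ⟨x', hx, hx'⟩ ⟨y', hy, hy'⟩
        refine ⟨x' * y', by rw [map_mul, hx, hy], ?_⟩
        unfold Tw at *
        rw [one_mul] at *
        rw [map_mul, mul_assoc, hy', ← mul_assoc, hx', mul_assoc]
      one_mem' := ⟨1, map_one _, by unfold Tw; rw [map_one, one_mul, one_mul, mul_one]⟩
      inv_mem' := by
        rintro x ⟨x', hx, hx'⟩
        refine ⟨x'⁻¹, by rw [map_inv, hx], ?_⟩
        unfold Tw at *
        rw [one_mul] at *
        rw [map_inv, inv_mul_eq_iff_eq_mul, ← mul_assoc, eq_mul_inv_iff_mul_eq, hx'] }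
  have key : pr d ∈ X0 := by
    refine hA.quo X X0 hXtop hXA ?_ ?_ ?_ (pr d) ((hcomm d).2 ⟨w, hdg⟩) ?_
    · rintro a ha _ ⟨x', rfl, hx'⟩
      obtain ⟨α, θ, h1, -, h2⟩ := hact a ha
      refine ⟨α x', ?_, ?_⟩
      · rw [h1, lift_pr]
      · have h3 := h2 1 x' (by rw [scg_one]; exact hx')
        rwa [map_one, scg_one] at h3
    · rintro _ ⟨x', rfl, hx'⟩
      exact (hcomm x').2 ⟨1, by rw [scg_one]; exact hx'⟩
    · rintro y hy _ ⟨x', rfl, hx'⟩
      obtain ⟨y', rfl⟩ := pr_surjective y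
      obtain ⟨c, hc⟩ := (hcomm y').1 hy
      refine ⟨y' * x' * y'⁻¹, by rw [map_mul, map_mul, map_inv], ?_⟩
      rw [map_mul, map_mul, map_inv]
      exact Tw.conj (scg_comm c) hc hx'
    · intro a ha
      obtain ⟨α, θ, h1, h0, h2⟩ := hact a ha
      refine ⟨d⁻¹ * α d, ?_, ?_⟩
      · rw [map_mul, map_inv, ← lift_pr, ← h1]
      · have h3 := h2 w d hdg
        rw [h0] at h3
        rw [map_mul, map_inv]
        exact Tw.inv_mul hdg h3
  obtain ⟨y, hy, hy'⟩ := key
  obtain ⟨c, hc⟩ := pr_eq_iff.1 hy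
  have h1 : tg d * g = g * tg d := by
    unfold Tw at hy'
    rw [one_mul] at hy'
    rw [hc, mul_assoc, hy', ← mul_assoc, scg_comm, mul_assoc]
  unfold Tw at hdg
  rw [h1, right_eq_mul] at hdg
  have h2 : scalar (Fin n) (w : F) (⟨0, by omega⟩ : Fin n) ⟨0, by omega⟩ =
      (1 : Matrix (Fin n) (Fin n) F) ⟨0, by omega⟩ ⟨0, by omega⟩ := by
    change (scg w : GL (Fin n) F).1 _ _ = _
    rw [hdg]
    rfl
  rw [scalar_apply, diagonal_apply_eq, one_apply_eq] at h2
  have h3 : w = 1 := Units.ext h2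
  rw [h3, orderOf_one] at hw
  exact hp.one_lt.ne hw

/-- The family of the groups `PSL_n(F)`. -/
theorem noBad_of_char {r : ℕ} {S : Type*} [Group S] (h : IsPSLChar r S) : NoBad r S := by
  obtain ⟨F, _, _, _, n, hn, -, ⟨e⟩⟩ := h
  have : Fact r.Prime := ⟨CharP.char_is_prime F r⟩
  exact (noBad_psl r hn).congr e.symm

end Main

end Cfsg.Agent.H864.NoBadPSL
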