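import Mathlib
import Cfsg.Agent.H522.FrobAct
import Cfsg.Agent.OddOrderLocal.FrobAct

/-!
# Frobenius groups of automorphisms of finite solvable groups: the order formula

`A` acts on the finite solvable group `G`, `(F, H)` is a `FrobPair` in `A` with `F` finite nilpotent, `H` finite and
`C_G(F) = 1`.  Then `|G| = |C_G(H)| ^ |H|` (`card_eq`).
-/

set_option autoImplicit false

namespace Cfsg.Agent.H864.FrobOrder

open Cfsg.Agent.H522

universe u v

variable {A : Type v} [Group A]

/-- the action of a subgroup of `A` as a homomorphism into the automorphism group -/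
def actHom (K : Subgroup A) (V : Type*) [Group V] [MulDistribMulAction A V] : K →* MulAut V where
  toFun k := MulDistribMulAction.toMulEquiv V (k : A)
  map_one' := by
    ext v
    exact one_smul A v
  map_mul' x y := by
    ext v
    exact mul_smul (x : A) (y : A) v

/-- conjugation of `F` by the elements of `H` -/
def conjHom {F H : Subgroup A} (hp : FrobPair F H) : H →* MulAut F where
  toFun h :=
    { toFun := fun f => ⟨(h : A) * f * (h : A)⁻¹, hp.conj_mem h h.2 f f.2⟩
      invFun := fun f => ⟨(h : A)⁻¹ * f * (h : A), hp.conj_mem' h.2 f.2⟩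
      left_inv := fun f => Subtype.ext (by
        change (h : A)⁻¹ * ((h : A) * f * (h : A)⁻¹) * (h : A) = f
        group)
      right_inv := fun f => Subtype.ext (by
        change (h : A) * ((h : A)⁻¹ * f * (h : A)) * (h : A)⁻¹ = f
        group)
      map_mul' := fun x y => Subtype.ext (by
        change (h : A) * ((x : A) * y) * (h : A)⁻¹ = ((h : A) * x * (h : A)⁻¹) * ((h : A) * y * (h : A)⁻¹)
        group) }
  map_one' := by
    ext f
    change (1 : A) * f * (1 : A)⁻¹ = f
    group
  map_mul' x y := by
    ext f
    change ((x : A) * y) * f * ((x : A) * y)⁻¹ = (x : A) * ((y : A) * f * (y : A)⁻¹) * (x : A)⁻¹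
    group

/-- the elementary abelian case -/
theorem card_eq_elementary {F H : Subgroup A} (hp : FrobPair F H) [Finite F] [Finite H]
    (hF : Group.IsNilpotent F) (p : ℕ) [Fact p.Prime] {V : Type*} [CommGroup V] [Finite V]
    [MulDistribMulAction A V] (hV : ∀ v : V, v ^ p = 1)
    (hCF : ∀ v : V, (∀ f ∈ F, f • v = v) → v = 1) :
    Nat.card V = Nat.card (fixedBy H V) ^ Nat.card H := by
  have hVp : IsPGroup p V := fun x => ⟨1, by rw [pow_one]; exact hV x⟩
  obtain ⟨Q, hQF, hpQ, hQc, hCQ⟩ := exists_pprime_part hp hF p hVp hCF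
  have hQfin : Finite Q := Finite.of_injective (fun y : Q => (⟨y, hQF y.2⟩ : F)) (by
    intro x y h
    exact Subtype.ext (congrArg (fun z : F => (z : A)) h))
  have h1 := (Cfsg.Agent.OddOrderLocal.FrobAct.card_eq_of_elementary p hV hQc (actHom Q V) (actHom H V) (conjHom hpQ)
    (fun r k v => by
      change (r : A) • ((k : A) • v) = ((r : A) * k * (r : A)⁻¹) • ((r : A) • v)
      rw [← mul_smul, ← mul_smul]
      congr 1
      group)
    (fun v hv => hCQ v (fun f hf => hv ⟨f, hf⟩))
    (fun r hr k hk => by
      have h2 : (r : A) * k * (r : A)⁻¹ = k := congrArg Subtype.val hk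
      apply Subtype.ext
      exact hpQ.fpf r r.2 (fun e => hr (Subtype.ext e)) k k.2 (mul_inv_eq_iff_eq_mul.mp h2))).1
  rw [h1]
  congr 1
  exact Nat.card_congr
    { toFun := fun x => ⟨x.1, fun k hk => x.2 ⟨k, hk⟩⟩
      invFun := fun x => ⟨x.1, fun k => x.2 k k.2⟩
      left_inv := fun x => rfl
      right_inv := fun x => rfl }

/-- **The order formula.** -/
theorem card_eq {F H : Subgroup A} (hp : FrobPair F H) [Finite F] [Finite H]
    (hF : Group.IsNilpotent F) : ∀ (n : ℕ) (G : Type u) [Group G] [Finite G]
    [MulDistribMulAction A G], Nat.card G ≤ n → Group.IsSolvable G →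
    (∀ g : G, (∀ f ∈ F, f • g = g) → g = 1) →
    Nat.card G = Nat.card (fixedBy H G) ^ Nat.card H := by
  intro n
  induction n with
  | zero =>
    intro N _ _ _ hn
    exact absurd (Nat.card_pos (α := N)) (by omega)
  | succ n ih =>
    intro G _ _ _ hn hG hCF
    rcases subsingleton_or_nontrivial G with hs | hnt
    · have h1 : Nat.card G = 1 := Nat.card_unique
      have h2 : Nat.card (fixedBy H G) = 1 := Nat.card_unique
      rw [h1, h2, one_pow]
    obtain ⟨p, hpp, hne⟩ := exists_elemSub_ne_top (G := G) hG
    have hfact : Fact p.Prime := ⟨hpp⟩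
    have hinv : ∀ (a : A) (m : G), m ∈ elemSub p G → a • m ∈ elemSub p G :=
      fun a m hm => smul_mem_elemSub p a m hm
    -- the subgroup
    let _inst1 : MulDistribMulAction A (elemSub p G) := subAct (elemSub p G) hinv
    have hcard : Nat.card (elemSub p G) ≤ n := by
      have h1 : Nat.card (elemSub p G) < Nat.card G := by
        refine lt_of_le_of_ne (Subgroup.card_le_card_group _) ?_
        intro h
        exact hne (Subgroup.eq_top_of_card_eq _ h)
      omega
    have hM := ih (elemSub p G) hcard inferInstance
      (fun g hg => Subtype.ext (hCF g (fun f hf => congrArg Subtype.val (hg f hf))))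
    -- the quotient
    let _inst2 : CommGroup (G ⧸ elemSub p G) := elemQuotCommGroup p
    let _inst3 : MulDistribMulAction A (G ⧸ elemSub p G) := quotAct (elemSub p G) hinv
    have hVF : ∀ v : G ⧸ elemSub p G, (∀ f ∈ F, f • v = v) → v = 1 := by
      intro v hv
      induction v using QuotientGroup.induction_on with
      | H g =>
        rw [QuotientGroup.eq_one_iff]
        apply fixed_quotient hF hG hCF (elemSub p G) hinv
        intro f hf
        exact QuotientGroup.eq.mp (hv f hf).symm
    have hQ := card_eq_elementary hp hF p (V := G ⧸ elemSub p G) (fun v => elemQuot_pow p v) hVF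
    -- the fixed points
    have hfix : Nat.card (fixedBy H G) = Nat.card (fixedBy H (G ⧸ elemSub p G)) *
        Nat.card (fixedBy H (elemSub p G)) := by
      let π : fixedBy H G →* fixedBy H (G ⧸ elemSub p G) :=
        { toFun := fun g => ⟨QuotientGroup.mk (g : G), fun h hh =>
            congrArg (QuotientGroup.mk (s := elemSub p G)) (g.2 h hh)⟩
          map_one' := rfl
          map_mul' := fun x y => rfl }
      have hsurj : Function.Surjective π := by
        rintro ⟨v, hv⟩
        obtain ⟨g, rfl⟩ := QuotientGroup.mk_surjective v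
        obtain ⟨c, hc, hcg⟩ := lift_fixed hp hF (elemSub p G) inferInstance hinv
          (fun n _ h => hCF n h) g (fun h hh => QuotientGroup.eq.mp (hv h hh).symm)
        exact ⟨⟨c, hc⟩, Subtype.ext (QuotientGroup.eq.mpr hcg)⟩
      have hker : Nat.card π.ker = Nat.card (fixedBy H (elemSub p G)) := by
        refine Nat.card_congr
          { toFun := fun x => ⟨⟨x.1.1, (QuotientGroup.eq_one_iff _).mp (congrArg Subtype.val x.2)⟩,
              fun h hh => Subtype.ext (x.1.2 h hh)⟩
            invFun := fun x => ⟨⟨x.1.1, fun h hh => congrArg Subtype.val (x.2 h hh)⟩,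
              Subtype.ext ((QuotientGroup.eq_one_iff _).mpr x.1.2)⟩
            left_inv := fun x => rfl
            right_inv := fun x => rfl }
      rw [← hker, Subgroup.card_eq_card_quotient_mul_card_subgroup π.ker,
        Nat.card_congr (QuotientGroup.quotientKerEquivOfSurjective π hsurj).toEquiv]
    have hcardG : Nat.card G = Nat.card (G ⧸ elemSub p G) * Nat.card (elemSub p G) :=
      Subgroup.card_eq_card_quotient_mul_card_subgroup _
    rw [hcardG, hfix, mul_pow, ← hM, ← hQ]

end Cfsg.Agent.H864.FrobOrder
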